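import Cfsg.Agent.GroupStructure3.AutAltSix

/-!
The square of an automorphism of the alternating group of degree six is inner.
-/

set_option autoImplicit false
set_option linter.all false
set_option maxRecDepth 20000

namespace Cfsg.Agent.SuzukiRecog

open Cfsg.Agent.GroupStructure3.AutAltSix

/-- Order three. -/
def is3 (p : List ℕ) : Bool := mm p (mm p p) == one6 && p != one6

/-- Order five. -/
def is5 (p : List ℕ) : Bool := mm p (mm p (mm p (mm p p))) == one6 && p != one6

/-- A number for a list. -/
def code (p : List ℕ) : ℕ :=
  p.getD 0 0 + 6 * (p.getD 1 0 + 6 * (p.getD 2 0 + 6 * (p.getD 3 0 + 6 * (p.getD 4 0 + 6 * p.getD 5 0))))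

/-- The list of a number. -/
def decode (n : ℕ) : List ℕ := [n % 6, n / 6 % 6, n / 36 % 6, n / 216 % 6, n / 1296 % 6, n / 7776 % 6]

/-- A digit. -/
def dig (m i : ℕ) : ℕ := m / 6 ^ i % 6

/-- The product on numbers. -/
def mmN (m n : ℕ) : ℕ :=
  dig m (dig n 0) + 6 * (dig m (dig n 1) + 6 * (dig m (dig n 2) + 6 * (dig m (dig n 3) + 6 * (dig m (dig n 4) + 6 * dig m (dig n 5)))))

/-- The word of an element of order three on numbers. -/
def wN (A B : ℕ) : ℕ :=
  let p := mmN A B
  mmN (mmN (mmN p p) (mmN (mmN B A) B)) (mmN B B)

theorem hget (m : ℕ) : ∀ i < 6, (decode m).getD i 0 = dig m i := by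
  intro i hi
  interval_cases i <;> simp [decode, dig]

theorem mmN_decode (m n : ℕ) : code (mm (decode m) (decode n)) = mmN m n := by
  have h : ∀ i, dig n i < 6 := fun i => Nat.mod_lt _ (by norm_num)
  simp only [mmN, ← hget m _ (h _)]
  simp [code, mm, decode, dig]

/-- The three-element of the scan. -/
def g3 : alternatingGroup (Fin 6) := ga * gb * (ga * gb) * (gb * ga * gb) * (gb * gb)

/-- Membership of a number among the first entries. -/
def memC (n : ℕ) : List (ℕ × ℕ) → Bool
  | [] => false
  | t :: l => Nat.beq t.1 n || memC n l

/-- The inverse. -/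
def invP (p : List ℕ) : List ℕ := (List.range 6).map fun i => p.findIdx (fun j => Nat.beq j i)

/-- Membership of a number. -/
def memN (n : ℕ) : List ℕ → Bool
  | [] => false
  | t :: l => Nat.beq t n || memN n l

/-- The numbers of the even permutations. -/
def evC : List ℕ :=
  [44790, 30750, 36150, 38130, 42450, 21930, 43350, 22830, 27150, 29130, 34530, 20490, 38280, 43680, 29640, 44400, 15240, 33600, 30180, 40980, 12900, 35400, 13800, 25680, 44550, 22950, 34830, 37890, 41130, 14130, 41850, 14850, 18090, 21150, 33030, 11430, 30300, 42180, 20580, 43080, 15000, 25800, 22380, 40740, 11580, 26340, 12300, 17700, 35490, 21450, 26850, 28830, 33150, 12630, 34050, 13530, 17850, 19830, 25230, 11190, 38305, 43705, 29665, 44605, 23005, 34885, 30385, 42265, 20665, 35605, 21565, 26965, 44725, 30685, 36085, 37705, 39865, 6385, 42925, 7285, 24565, 28705, 31945, 4945, 38035, 42355, 21835, 44155, 7435, 32275, 22195, 39475, 3835, 33895, 5815, 16615, 43225, 22705, 27025, 29905, 39625, 5065, 41605, 7045, 16765, 19645, 23965, 3445, 28975, 34375, 20335, 35095, 5935, 24295, 20875, 31675, 3595, 26095, 4495, 16375, 44750,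 30710, 36110, 37910, 41150, 14150, 43130, 15050, 25850, 28910, 33230, 12710, 38240, 43640, 29600, 44180, 7460, 32300, 29960, 39680, 5120, 35180, 6020, 24380, 44300, 15140, 33500, 37640, 39800, 6320, 40340, 6860, 9020, 13160, 31520, 2360, 30050, 40850, 12770, 42830, 7190, 24470, 14390, 39230, 2510, 24830, 4310, 8630, 35240, 13640, 25520, 28580, 31820, 4820, 32540, 5540, 8780, 11840, 23720, 2120, 38055, 42375, 21855, 44355, 15195, 33555, 22395, 40755, 11595, 34095, 13575, 17895, 44505, 22905, 34785, 37665, 39825, 6345, 41625, 7065, 16785, 20925, 31725, 3645, 37815, 41055, 14055, 44115, 7395, 32235, 14415, 39255, 2535, 32595, 5595, 8835, 41715, 14715, 17955, 22095, 39375, 3735, 40275, 6795, 8955, 10575, 15975, 1935, 20985, 32865, 11265, 33765, 5685, 16485, 13065, 31425, 2265, 17025, 2985, 8385, 43240, 22720, 27040, 30100, 40900, 12820, 41800, 14800, 18040, 19840, 25240, 11200, 30250, 42130, 20530, 42850, 7210, 24490, 22150, 39430, 3790, 26110, 4510, 16390, 43000, 14920, 25720, 29860, 39580, 5020, 40300, 6820, 8980, 11860, 23740, 2140, 22270, 40630, 11470, 41530, 6970, 16690, 14350, 39190, 2470, 17050,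 3010, 8410, 26170, 12130, 17530, 19510, 23830, 3310, 24730, 4210, 8530, 10510, 15910, 1870, 28985, 34385, 20345, 35285, 13685, 25565, 21065, 32945, 11345, 26285, 12245, 17645, 35435, 21395, 26795, 28595, 31835, 4835, 33815, 5735, 16535, 19595, 23915, 3395, 28745, 33065, 12545, 35045, 5885, 24245, 13085, 31445, 2285, 24785, 4265, 8585, 33935, 13415, 17735, 20795, 31595, 3515, 32495, 5495, 8735, 10535, 15935, 1895, 19685, 25085, 11045, 25985, 4385, 16265, 11765, 23645, 2045, 16985, 2945, 8345]

/-- Two lists of six small numbers have the same code exactly when they are equal. -/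
def eqL (p q : List ℕ) : Bool := Nat.beq (code p) (code q)

/-- The entry is a conjugate of `x` by its witness. -/
def witC (x : List ℕ) (t : ℕ × ℕ) : Bool :=
  mm (decode t.2) x == mm (decode t.1) (decode t.2) && memN t.2 evC

/-- The entry is the pair of conjugates of the generators by its witness. -/
def witI (t : ℕ × ℕ) : Bool :=
  mm (decode t.2) (enc ga) == mm (decode (t.1 % 46656)) (decode t.2) &&
    mm (decode t.2) (enc gb) == mm (decode (t.1 / 46656)) (decode t.2) && memN t.2 evC

def c5 : List (ℕ × ℕ) :=
  [(2120, 38055), (2140, 15195), (3645, 38305), (3790, 23005), (4210, 30710), (5065, 37910), (5685, 22720), (5815, 30100), (6320, 14800), (6795, 15050), (7285, 22395), (7460, 30385), (8735, 14150), (8955, 44750), (11045, 11595), (11200, 17895), (12300, 30750), (12900, 38130), (13085, 12820), (13160, 43240), (14150, 25240), (14850, 22830), (14920, 42375), (15195, 33230), (16265, 21855), (16375, 44355), (17850, 21930), (18090, 44790), (19595, 20665), (20530, 26965), (20985, 11200), (21065, 18040), (21855, 40900), (22150, 43705), (22705, 34095), (22950, 34530), (23915, 29665), (24380, 44605),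 (24730, 12710), (25565, 25850), (26340, 20490), (26850, 27150), (28705, 19840), (28745, 27040), (28975, 41800), (29960, 35605), (30100, 41150), (30300, 42450), (31725, 21565), (31820, 13575), (32275, 28910), (32495, 36110), (33230, 40755), (33600, 29130), (34050, 36150), (34385, 33555), (34785, 42265), (35095, 43130), (35400, 43350), (35435, 34885), (39230, 28985), (39255, 13685), (39865, 21065), (40630, 11345), (40755, 17645), (41055, 34385), (41530, 20345), (41605, 35285), (42355, 26285), (42830, 12245), (43130, 32945), (43240, 25565)]

def d5 : List (ℕ × ℕ) :=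
  [(2265, 28910), (2470, 33230), (3310, 34095), (3445, 13575), (4510, 35605), (5120, 21565), (5540, 19840), (5595, 25240), (6385, 11200), (7065, 26965), (7190, 17895), (7435, 12710), (8585, 40755), (8630, 22395), (11430, 29130), (11580, 34530), (11765, 41150), (12820, 36110), (13415, 40900), (13575, 27040), (14055, 30100), (14350, 37910), (15050, 21855), (15240, 20490), (16535, 42265), (16785, 30385), (17530, 33555), (17645, 42375), (19830, 42450), (20580, 36150), (20795, 41800), (20875, 14800), (21835, 12820), (22380, 38130), (22720, 38055), (22905, 29665), (23645, 43130), (24295, 15050), (25230, 43350), (25680, 22830), (26110, 34885), (26795, 43705), (28580, 18040), (28910, 22720), (28985, 43240), (29905, 14150), (30180, 21930), (30250, 38305), (31425, 25850), (31945, 11595), (32300, 20665), (33030, 27150), (33065, 44355), (33555, 30710), (33815, 44605), (34375, 15195), (34830, 30750), (35180, 23005), (35285, 44750), (35490, 44790), (39375, 26285), (39475, 12245), (39800, 17645), (40300, 32945), (40340, 21065), (41150, 20345), (41715, 25565), (41800, 34385), (42375, 28985), (42925, 11345), (43000,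 35285), (43225, 13685)]

def c3 : List (ℕ × ℕ) :=
  [(5935, 12770), (6020, 21835), (6345, 27025), (7210, 36085), (13685, 44300), (13800, 20580), (14130, 29640), (15000, 34830), (21395, 43225), (21450, 44550), (21930, 25800), (22830, 36150), (28595, 44725), (28830, 42180), (29130, 44790), (30750, 33600), (31835, 42355), (33150, 43680), (34530, 41130), (36150, 42450), (39625, 15140), (39680, 20335), (39825, 30685), (40900, 35240), (40980, 22950), (41130, 26850), (42130, 38035), (42180, 35490), (42450, 30750), (42850, 34375), (43080, 38280), (43350, 33150), (44155, 13640), (44180, 22705), (44355, 30050), (44400, 21450), (44505, 28975), (44550, 30300), (44725, 14715), (44750, 20985)]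

def d3 : List (ℕ × ℕ) :=
  [(2360, 35400), (2535, 42925), (3595, 40340), (3735, 21150), (4310, 41605), (4495, 29130), (6820, 26340), (6970, 44155), (8835, 41850), (9020, 33895), (11345, 35490), (11470, 43080), (11860, 28705), (12245, 14390), (14390, 44400), (14715, 19645), (16485, 35095), (16765, 43350), (17735, 22195), (18040, 13160), (19510, 22380), (19685, 28830), (22195, 24830), (22395, 44550), (23720, 30180), (23965, 32540), (24785, 34050), (25240, 30300), (25985, 29905), (26170, 20875), (30685, 44790), (30710, 10575), (31445, 37705), (31595, 19830), (32540, 26095), (32865, 37890), (33895, 38130), (34095, 11840), (36085, 17025), (36110, 38280)]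

def innL : List (ℕ × ℕ) :=
  [(87251555, 17645), (87260360, 28975), (87272520, 16390), (87286300, 30300), (88438920, 3790), (88451250, 2535), (88455385, 42830), (88457420, 44155), (90284195, 11345), (90300925, 35240), (90317490, 8835), (90323475, 37890), (106621590, 3735), (106638600, 6385), (106648390, 40340), (106649810, 42850), (117112445, 35285), (117120090, 31520), (117131050, 11265), (117150200, 15240), (137415450, 6320), (137419620, 5065), (137441110, 41625), (137443545, 40300), (139273895, 32945), (139276690, 20335), (139289310, 31725), (139308435, 22950), (140436605, 26285), (140445750, 23740), (140455485, 13640), (140473990, 15000), (164007030, 5020), (164033730, 3835), (164039480, 40275), (164039955, 44180), (178927805, 20345), (178955360, 32865), (178963650, 16615), (178970365, 38130), (199008990, 6345), (199014990, 2510), (199027420, 42925), (199031545, 41530), (204607050, 2470), (204624840, 5120), (204626835, 41605), (204631165, 44115), (224885315, 25565), (224894985, 34375), (224920200, 24380), (224926220, 38280), (230719415, 34385), (230730310, 25520), (230743560, 31945), (230756185,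 30750), (234216515, 12245), (234233610, 8410), (234242785, 20985), (234252310, 22380), (320065895, 13685), (320087310, 8630), (320098465, 26170), (320101010, 30180), (328697405, 28985), (328709220, 23965), (328729185, 17530), (328735225, 22830), (345026615, 21065), (345033750, 15975), (345059360, 12130), (345062745, 14850), (389349815, 21450), (389355510, 23915), (389360710, 25240), (389384595, 22705), (391213955, 12770), (391231485, 14130), (391249750, 41800), (391251300, 39255), (392382695, 32595), (392390025, 33815), (392394660, 4820), (392418810, 7435), (409656070, 12820), (409677810, 9020), (409683385, 41715), (409683980, 44400), (418982070, 4835), (419000545, 33765), (419009010, 2360), (419014995, 37705), (490381710, 8980), (490392225, 11595), (490394140, 43080), (490399165, 44300), (491526845, 35490), (491533590, 16535), (491558625, 17895), (491565260, 38035), (493399830, 3395), (493408765, 28580), (493414350, 2140), (493428050, 29905), (525600330, 8955), (525609440, 14150), (525620115, 41850), (525622105, 43000), (540989960, 35435), (540997245, 33030), (541002120, 16485), (541020025, 23005),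 (552411875, 11470), (552445280, 12900), (552448890, 39230), (552451155, 44355), (565943015, 14055), (565961770, 11580), (565978130, 43130), (565980960, 39190), (585301565, 26850), (585313050, 31835), (585329120, 33230), (585339100, 30685), (593006290, 26795), (593018910, 31820), (593036000, 25680), (593042365, 38305), (595801955, 17050), (595805650, 19595), (595826760, 5685), (595837860, 7045), (672549635, 24830), (672559880, 28595), (672584130, 3310), (672589920, 7285), (690521865, 21395), (690533290, 17700), (690547080, 23830), (690551065, 30385), (706385370, 5735), (706392330, 1935), (706410145, 19510), (706411030, 22195), (742310600, 35095), (742317450, 2285), (742334850, 3645), (742341565, 37640), (743469245, 28830), (743483850, 8585), (743487850, 11200), (743505625, 30050), (745354090, 18040), (745367490, 16785), (745370450, 43225), (745373715, 44550), (775194275, 17955), (775219105, 21930), (775229020, 43240), (775231290, 39475), (778694135, 33895), (778710205, 35045), (778715790, 2265), (778732320, 7460), (792455555, 12630), (792465225, 34095), (792473310, 31445), (792491590, 15140), (794320445,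 26110), (794331930, 5935), (794334790, 24785), (794360250, 7190), (795490295, 21835), (795493330, 20580), (795525540, 39430), (795526425, 40755), (834911165, 20530), (834946785, 18090), (834952800, 39375), (834953725, 44605), (837724870, 12545), (837738120, 31425), (837746145, 11430), (837752780, 37910), (916570185, 21855), (916582920, 16765), (916599385, 43350), (916600760, 40630), (925667670, 16690), (925693345, 20665), (925694470, 40740), (925699340, 44505), (948760950, 24295), (948770685, 33065), (948779425, 34530), (948790610, 30710), (949222055, 33150), (949234020, 24245), (949254625, 26965), (949260435, 38240), (964158870, 3010), (964163940, 4265), (964175840, 13065), (964187865, 14390), (1030885470, 5885), (1030890120, 3445), (1030902560, 24730), (1030903900, 29960), (1039037650, 26340), (1039050685, 28745), (1039067250, 8530), (1039072760, 15050), (1073326115, 10575), (1073342205, 13085), (1073359560, 4210), (1073362020, 6860), (1107634365, 32540), (1107639240, 3515), (1107651720, 4945), (1107657740, 37665), (1111818365, 35180), (1111825110, 3595), (1111842080, 32495), (1111853220, 7395),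 (1131180455, 13530), (1131183250, 19840), (1131200520, 15935), (1131218360, 14715), (1141674365, 27025), (1141685960, 29640), (1141711750, 40900), (1141716000, 39680), (1146113170, 27040), (1146142920, 24565), (1146146265, 40850), (1146149245, 44790), (1158482120, 35400), (1158488970, 8780), (1158498145, 33935), (1158510105, 15195), (1170371255, 34050), (1170392910, 8735), (1170404000, 12710), (1170410365, 37815), (1190674185, 20875), (1190678820, 4510), (1190688270, 1895), (1190704825, 22095), (1200010020, 24490), (1200030560, 25850), (1200031510, 42180), (1200036435, 44725), (1206068790, 24470), (1206079165, 29665), (1206097875, 42130), (1206101240, 40980), (1217501850, 31675), (1217512810, 17735), (1217526625, 20490), (1217532435, 38055), (1226357795, 17850), (1226374525, 35605), (1226382600, 31595), (1226392150, 22905), (1258082435, 11860), (1258100190, 5540), (1258103530, 10535), (1258122720, 6795), (1260881795, 25720), (1260916705, 27150), (1260919140, 39625), (1260922700, 44750), (1261584125, 29600), (1261594630, 25800), (1261620090, 39580), (1261621945, 42265), (1393164550, 12300), (1393177760,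 13415), (1393186050, 15910), (1393188435, 22395), (1402014845, 19645), (1402042465, 20795), (1402050930, 1870), (1402054650, 7065), (1417653750, 4310), (1417672200, 5495), (1417680225, 10510), (1417681990, 14415), (1470614820, 23720), (1470626720, 13800), (1470634785, 11045), (1470636700, 30100), (1477841430, 16375), (1477850365, 29130), (1477867040, 25085), (1477867990, 22720), (1503969225, 21150), (1503983310, 8385), (1503994465, 19685), (1503995590, 14800), (1520758205, 28705), (1520772810, 2120), (1520790625, 25985), (1520793060, 7210), (1537085315, 25230), (1537111585, 21565), (1537119810, 16265), (1537122770, 30250), (1562997150, 5815), (1563000490, 17025), (1563014280, 4385), (1563016275, 22150), (1575348370, 26095), (1575369480, 6020), (1575377970, 2045), (1575382105, 29860), (1583276195, 11190), (1583285000, 28910), (1583309640, 23645), (1583312985, 14920), (1627600295, 13160), (1627620360, 2985), (1627632800, 11765), (1627636410, 6820), (1635061565, 19830), (1635080445, 13575), (1635097650, 8345), (1635103225, 22270), (1644162935, 20925), (1644168630, 4495), (1644195105, 16985), (1644201120,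 6970), (1661200410, 5595), (1661203270, 11840), (1661224770, 2945), (1661230520, 14350), (1756152765, 33555), (1756161480, 32300), (1756171030, 42355), (1756172690, 43680), (1759170215, 33500), (1759186045, 36150), (1759204755, 42375), (1759208160, 39865), (1764302525, 36085), (1764309705, 34830), (1764338490, 39825), (1764340280, 41150), (1768734455, 34785), (1768758560, 33600), (1768769700, 39800), (1768771225, 43705), (1774574600, 36110), (1774582110, 32275), (1774600390, 41055), (1774604665, 42450), (1775507610, 32235), (1775523745, 34885), (1775533660, 43640), (1775535705, 41130)]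

theorem code_scan : (evens.all fun p => decode (code p) == p) = true := by decide +kernel

theorem five_scan : (evens.all fun p => !is5 p || memC (code p) c5 || memC (code p) d5) = true := by decide +kernel

theorem three_scan : (evens.all fun p => !is3 p || memC (code p) c3 || memC (code p) d3) = true := by decide +kernel

theorem closed_five : (evens.all fun h => memC (code (mm (mm h (enc (ga * gb))) (invP h))) c5) = true := by
  decide +kernel

theorem closed_three : (evens.all fun h => memC (code (mm (mm h (enc g3)) (invP h))) c3) = true := by
  decide +kernel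

theorem inv_scan : (evens.all fun h => mm h (invP h) == one6 && evens.contains (invP h)) = true := by
  decide +kernel

theorem inner_scan : (imgs.all fun r => !memC (mmN (code r.1) (code r.2)) c5 ||
    !memC (wN (code r.1) (code r.2)) c3 || memC (code r.1 + 46656 * code r.2) innL) = true := by
  decide +kernel

theorem gen_five : is5 (enc (ga * gb)) = true ∧ is3 (enc g3) = true := by decide +kernel

theorem evC_scan : (evC.all fun n => evens.any fun p => Nat.beq (code p) n) = true := by decide +kernel

theorem wit_five : c5.all (witC (enc (ga * gb))) = true ∧ d5.all (witC (enc (ga * gb * (ga * gb)))) = true := by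
  decide +kernel

theorem wit_three : c3.all (witC (enc g3)) = true ∧ d3.all (witC [1, 2, 0, 4, 5, 3]) = true := by decide +kernel

theorem wit_inner : innL.all witI = true := by decide +kernel

theorem enc_surj {p : List ℕ} (hp : p ∈ evens) : ∃ g : alternatingGroup (Fin 6), enc g = p := by
  classical
  have hsub : (Finset.univ.image fun g : alternatingGroup (Fin 6) => enc g) ⊆ evens.toFinset := fun q hq => by
    obtain ⟨g, -, rfl⟩ := Finset.mem_image.1 hq
    exact List.mem_toFinset.2 (enc_mem _ (Equiv.Perm.mem_alternatingGroup.1 g.2))
  have hlen : evens.length = 360 := by decide +kernel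
  have heq := Finset.eq_of_subset_of_card_le hsub (by
    rw [Finset.card_image_of_injective _ fun g g' e => Subtype.ext (enc_injective e), Finset.card_univ,
      ← Nat.card_eq_fintype_card, nat_card_alternatingGroup, Nat.card_fin]
    exact (List.toFinset_card_le _).trans (le_of_eq (hlen.trans (by rfl))))
  have h := List.mem_toFinset.2 hp
  rw [← heq] at h
  obtain ⟨g, -, rfl⟩ := Finset.mem_image.1 h
  exact ⟨g, rfl⟩

attribute [local irreducible] ga gb gc gd

theorem key (g : alternatingGroup (Fin 6)) : enc g = one6 ↔ g = 1 :=
  ⟨fun h => Subtype.ext (enc_injective (h.trans enc_one.symm)), fun h => by rw [h]; exact enc_one⟩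

theorem enc_inj {g g' : alternatingGroup (Fin 6)} (h : enc g = enc g') : g = g' := Subtype.ext (enc_injective h)

theorem memC_spec {n : ℕ} : ∀ {l : List (ℕ × ℕ)}, memC n l = true → ∃ t ∈ l, t.1 = n
  | [], h => by simp [memC] at h
  | t :: l, h => by
    simp only [memC, Bool.or_eq_true] at h
    rcases h with h | h
    · exact ⟨t, List.mem_cons_self, Nat.eq_of_beq_eq_true h⟩
    · obtain ⟨u, hu, e⟩ := memC_spec h; exact ⟨u, List.mem_cons_of_mem _ hu, e⟩

theorem memN_spec {n : ℕ} : ∀ {l : List ℕ}, memN n l = true → n ∈ l
  | [], h => by simp [memN] at h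
  | t :: l, h => by
    simp only [memN, Bool.or_eq_true] at h
    rcases h with h | h
    · exact Nat.eq_of_beq_eq_true h ▸ List.mem_cons_self
    · exact List.mem_cons_of_mem _ (memN_spec h)

theorem decode_code (g : alternatingGroup (Fin 6)) : decode (code (enc g)) = enc g :=
  beq_iff_eq.1 (List.all_eq_true.1 code_scan _ (enc_mem _ (Equiv.Perm.mem_alternatingGroup.1 g.2)))

theorem evC_spec {n : ℕ} (h : memN n evC = true) : ∃ g : alternatingGroup (Fin 6), decode n = enc g := by
  obtain ⟨p, hp, e⟩ := List.any_eq_true.1 (List.all_eq_true.1 evC_scan n (memN_spec h))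
  obtain ⟨g, rfl⟩ := enc_surj hp
  exact ⟨g, by rw [← Nat.eq_of_beq_eq_true e, decode_code]⟩

theorem isConj_of_mem {x p : alternatingGroup (Fin 6)} {l : List (ℕ × ℕ)} (hl : l.all (witC (enc x)) = true)
    (h : memC (code (enc p)) l = true) : IsConj x p := by
  obtain ⟨t, ht, e⟩ := memC_spec h
  have h1 := List.all_eq_true.1 hl t ht
  simp only [witC, Bool.and_eq_true, beq_iff_eq] at h1
  obtain ⟨u, hu⟩ := evC_spec h1.2
  rw [hu, e, decode_code, ← enc_mul, ← enc_mul, ← Subgroup.coe_mul, ← Subgroup.coe_mul] at h1
  exact isConj_iff.2 ⟨u, mul_inv_eq_iff_eq_mul.2 (enc_inj h1.1)⟩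

theorem mmN_mul (g h : alternatingGroup (Fin 6)) :
    mmN (code (enc g)) (code (enc h)) = code (enc ((g * h : alternatingGroup (Fin 6)) : Equiv.Perm (Fin 6))) := by
  rw [← mmN_decode, decode_code, decode_code, ← enc_mul, ← Subgroup.coe_mul]

theorem mem_of_isConj {x p : alternatingGroup (Fin 6)} {l : List (ℕ × ℕ)}
    (hl : (evens.all fun h => memC (code (mm (mm h (enc x)) (invP h))) l) = true) (h : IsConj x p) :
    memC (code (enc p)) l = true := by
  obtain ⟨u, rfl⟩ := isConj_iff.1 h
  have hm : enc u ∈ evens := enc_mem _ (Equiv.Perm.mem_alternatingGroup.1 u.2)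
  have h1 := List.all_eq_true.1 inv_scan _ hm
  simp only [Bool.and_eq_true, beq_iff_eq, List.contains_iff_mem] at h1
  obtain ⟨v, hv⟩ := enc_surj h1.2
  rw [← hv, ← enc_mul, ← Subgroup.coe_mul, key] at h1
  have h2 := List.all_eq_true.1 hl _ hm
  rw [← hv, ← enc_mul, ← enc_mul, ← Subgroup.coe_mul, ← Subgroup.coe_mul] at h2
  rwa [inv_eq_of_mul_eq_one_right h1.1]

/-- With two classes, a square of an automorphism keeps each class. -/
theorem sq_class {H : Type*} [Group H] (φ : MulAut H) {p q : H} (P : H → Prop) (hP : P p)
    (hφ : ∀ u, P u → P (φ u)) (hcl : ∀ u, P u → IsConj u p ∨ IsConj u q) : IsConj (φ (φ p)) p := by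
  have hm : ∀ {u v : H}, IsConj u v → IsConj (φ u) (φ v) := fun h => φ.toMonoidHom.map_isConj h
  rcases hcl _ (hφ p hP) with h | h
  · exact (hm h).trans h
  · rcases hcl _ (hφ _ (hφ p hP)) with h' | h'
    · exact h'
    · have h1 : IsConj (φ (φ p)) (φ p) := h'.trans h.symm
      have h2 : IsConj (φ p) p := by
        have := φ.symm.toMonoidHom.map_isConj h1
        simpa using this
      exact (hm h2).trans h2

set_option maxHeartbeats 1600000 in
/-- The square of an automorphism is inner. -/
theorem sq_inner (φ : MulAut (alternatingGroup (Fin 6))) :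
    ∃ h : alternatingGroup (Fin 6), ∀ u, φ (φ u) = h * u * h⁻¹ := by
  classical
  obtain ⟨hp5, hp3⟩ := gen_five
  obtain ⟨q3, hq3⟩ := enc_surj (p := [1, 2, 0, 4, 5, 3]) (by decide +kernel)
  have o5 : ∀ u : alternatingGroup (Fin 6), is5 (enc u) = true ↔ u ^ 5 = 1 ∧ u ≠ 1 := fun u => by
    simp only [is5, Bool.and_eq_true, beq_iff_eq, bne_iff_ne, ne_eq, ← enc_mul, ← Subgroup.coe_mul, key]
    simp [pow_succ, mul_assoc]
  have o3 : ∀ u : alternatingGroup (Fin 6), is3 (enc u) = true ↔ u ^ 3 = 1 ∧ u ≠ 1 := fun u => by
    simp only [is3, Bool.and_eq_true, beq_iff_eq, bne_iff_ne, ne_eq, ← enc_mul, ← Subgroup.coe_mul, key]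
    simp [pow_succ, mul_assoc]
  have m5 : ∀ u : alternatingGroup (Fin 6), is5 (enc u) = true → is5 (enc (φ u)) = true := fun u h => by
    rw [o5] at h ⊢
    exact ⟨by rw [← map_pow, h.1, map_one], fun e => h.2 (φ.injective (e.trans (map_one φ).symm))⟩
  have m3 : ∀ u : alternatingGroup (Fin 6), is3 (enc u) = true → is3 (enc (φ u)) = true := fun u h => by
    rw [o3] at h ⊢
    exact ⟨by rw [← map_pow, h.1, map_one], fun e => h.2 (φ.injective (e.trans (map_one φ).symm))⟩
  have hmem : ∀ u : alternatingGroup (Fin 6), enc u ∈ evens := fun u =>
    enc_mem _ (Equiv.Perm.mem_alternatingGroup.1 u.2)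
  have k5 : IsConj (φ (φ (ga * gb))) (ga * gb) := by
    refine sq_class φ (q := ga * gb * (ga * gb)) (fun u : alternatingGroup (Fin 6) => is5 (enc u) = true) hp5 m5
      fun u hu => ?_
    have h := List.all_eq_true.1 five_scan _ (hmem u)
    simp only [hu, Bool.not_true, Bool.false_or, Bool.or_eq_true] at h
    exact h.imp (fun h => (isConj_of_mem (x := ga * gb) wit_five.1 h).symm) fun h => (isConj_of_mem (x := ga * gb * (ga * gb)) wit_five.2 h).symm
  have k3 : IsConj (φ (φ g3)) g3 := by
    refine sq_class φ (q := q3) (fun u : alternatingGroup (Fin 6) => is3 (enc u) = true) hp3 m3 fun u hu => ?_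
    have h := List.all_eq_true.1 three_scan _ (hmem u)
    simp only [hu, Bool.not_true, Bool.false_or, Bool.or_eq_true] at h
    exact h.imp (fun h => (isConj_of_mem (x := g3) wit_three.1 h).symm) fun h =>
      (isConj_of_mem (x := q3) (by rw [hq3]; exact wit_three.2) h).symm
  set ψ : MulAut (alternatingGroup (Fin 6)) := φ.trans φ
  have hψ : ∀ u, ψ u = φ (φ u) := fun u => rfl
  have himg : (enc (ψ ga), enc (ψ gb)) ∈ imgs := by
    obtain ⟨hX, hY, hXY⟩ := gens_rel
    simp only [isA, isB, isAB, beq_iff_eq, bne_iff_ne, ne_eq, Bool.and_eq_true, ← enc_mul,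
      ← Subgroup.coe_mul, key] at hX hY hXY
    simp only [imgs, List.mem_filter, List.mem_product, isA, isB, isAB,
      beq_iff_eq, bne_iff_ne, ne_eq, Bool.and_eq_true, ← enc_mul, ← Subgroup.coe_mul, key]
    refine ⟨⟨⟨hmem _, ?_⟩, hmem _, ?_⟩, ?_⟩
    · simpa [← map_mul] using hX
    · simpa [← map_mul] using hY
    · simpa [← map_mul] using hXY
  have h := List.all_eq_true.1 inner_scan _ himg
  have e3 : memC (wN (code (enc (ψ ga))) (code (enc (ψ gb)))) c3 = true := by
    rw [wN]
    simp only [mmN_mul, ← map_mul]
    have k := mem_of_isConj (x := g3) closed_three (show IsConj g3 (ψ g3) from k3.symm)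
    unfold g3 at k
    exact k
  have e5 : memC (mmN (code (enc (ψ ga))) (code (enc (ψ gb)))) c5 = true := by
    rw [mmN_mul, ← map_mul]
    exact mem_of_isConj (x := ga * gb) closed_five (show IsConj (ga * gb) (ψ (ga * gb)) from k5.symm)
  simp only [e3, e5, Bool.not_true, Bool.false_or, Bool.or_false] at h
  obtain ⟨t, ht, e⟩ := memC_spec h
  have h1 := List.all_eq_true.1 wit_inner t ht
  simp only [witI, Bool.and_eq_true, beq_iff_eq] at h1
  obtain ⟨u, hu⟩ := evC_spec h1.2
  have hlt : code (enc (ψ ga)) < 46656 := by
    have : (evens.all fun p => decide (code p < 46656)) = true := by decide +kernel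
    exact of_decide_eq_true (List.all_eq_true.1 this _ (hmem (ψ ga)))
  rw [e, hu, show (code (enc (ψ ga)) + 46656 * code (enc (ψ gb))) % 46656 = code (enc (ψ ga)) by omega,
    show (code (enc (ψ ga)) + 46656 * code (enc (ψ gb))) / 46656 = code (enc (ψ gb)) by omega,
    decode_code, decode_code] at h1
  simp only [← enc_mul, ← Subgroup.coe_mul] at h1
  refine ⟨u, fun v => ?_⟩
  have hhom : ψ.toMonoidHom = (MulAut.conj u).toMonoidHom := by
    refine MonoidHom.eq_of_eqOn_dense gen_top fun w hw => ?_
    rcases hw with rfl | rfl
    · exact eq_mul_inv_of_mul_eq (enc_inj h1.1.1).symm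
    · exact eq_mul_inv_of_mul_eq (enc_inj h1.1.2).symm
  exact DFunLike.congr_fun hhom v

end Cfsg.Agent.SuzukiRecog
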