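import Cfsg.Agent.Lib.SuzukiRecog.Mixed
import Cfsg.Agent.InvChar.Coset.SuzOrder

/-!
The recognition of the Suzuki sporadic group.
-/

set_option autoImplicit false
set_option linter.all false
set_option maxRecDepth 8000
set_option synthInstance.maxSize 4096

namespace Cfsg.Agent.SuzukiRecog

open Subgroup SuzukiLocal SuzukiType SuzukiThree LargeExtra OctadInv.Orbits

universe v

variable {G : Type v} [Group G] [Finite G] {Q Q' : Subgroup G} {z a' y : G} {D : Su Q Q' z a' y} {t : G}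

/-- The images of the seven generators. -/
def genMap (a b c d e f g : G) : Cfsg.Spor.Suz.Gen → G
  | .a => a
  | .b => b
  | .c => c
  | .d => d
  | .e => e
  | .f => f
  | .g => g

theorem isoSuz_of_sec (H : Sec D t) : Cfsg.Spor.IsoSuz G := by
  classical
  obtain ⟨a, b, c, d, f, g, r, R⟩ := exists_gens H
  let ι := FreeGroup.lift (genMap a b c d t f g)
  have hof : ∀ x, ι (FreeGroup.of x) = genMap a b c d t f g x := fun x => FreeGroup.lift_apply_of
  have h2 : ∀ {x y : G}, x * x = 1 → y * y = 1 → x * y = y * x → (x * y) ^ 2 = 1 :=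
    fun hx hy h => sq_pow hx hy h
  have h2' : ∀ {x y : G}, x * x = 1 → y * y = 1 → x * y = y * x → (y * x) ^ 2 = 1 :=
    fun hx hy h => sq_pow hy hx h.symm
  have cd8 := R.eRel.toPRel.cd8
  have hrel : ∀ w ∈ Cfsg.Spor.coxRelators Cfsg.Spor.Suz.edges ∪ {w | w ∈ Cfsg.Spor.Suz.extra}, ι w = 1 := by
    rintro w (⟨x, -, y, -, rfl⟩ | hw)
    · rw [map_pow, map_mul, hof, hof]
      have da := R.za; have db := R.zb; have dc := R.zc; have df := R.zf; have dg := R.zg
      cases x <;> cases y <;>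
        simp only [genMap, Cfsg.Spor.coxLabel, Cfsg.Spor.Suz.edges, List.find?, reduceCtorEq, if_false, if_true,
          decide_true, decide_false, and_true, true_and, and_false, false_and, or_false, false_or, or_self,
          and_self, true_or, or_true, pow_one]
      all_goals first
        | exact R.za.sq | exact R.zb.sq | exact R.zc.sq | exact R.dd | exact H.orb.sq | exact R.zf.sq | exact R.zg.sq
        | exact R.ab5 | exact pow_rev R.ab5 | exact R.bc3 | exact pow_rev R.bc3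
        | exact R.bf3 | exact pow_rev R.bf3 | exact R.bg3 | exact pow_rev R.bg3
        | exact R.fg4 | exact pow_rev R.fg4 | exact cd8 | exact pow_rev cd8
        | exact R.dt | exact pow_rev R.dt
        | exact h2 da.sq dc.sq R.ac | exact h2' da.sq dc.sq R.ac
        | exact h2 da.sq R.dd R.ad | exact h2' da.sq R.dd R.ad
        | exact h2 da.sq H.orb.sq da.comm | exact h2' da.sq H.orb.sq da.comm
        | exact h2 da.sq df.sq R.af | exact h2' da.sq df.sq R.af
        | exact h2 da.sq dg.sq R.ag | exact h2' da.sq dg.sq R.ag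
        | exact h2 db.sq R.dd R.bd | exact h2' db.sq R.dd R.bd
        | exact h2 db.sq H.orb.sq db.comm | exact h2' db.sq H.orb.sq db.comm
        | exact h2 dc.sq H.orb.sq dc.comm | exact h2' dc.sq H.orb.sq dc.comm
        | exact h2 dc.sq df.sq R.cf | exact h2' dc.sq df.sq R.cf
        | exact h2 dc.sq dg.sq R.cg | exact h2' dc.sq dg.sq R.cg
        | exact h2 R.dd df.sq R.df | exact h2' R.dd df.sq R.df
        | exact h2 R.dd dg.sq R.dg | exact h2' R.dd dg.sq R.dg
        | exact h2 df.sq H.orb.sq df.comm | exact h2' df.sq H.orb.sq df.comm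
        | exact h2 dg.sq H.orb.sq dg.comm | exact h2' dg.sq H.orb.sq dg.comm
    · simp only [Set.mem_setOf_eq, Cfsg.Spor.Suz.extra, List.mem_cons, List.not_mem_nil, or_false] at hw
      rcases hw with rfl | rfl | rfl | rfl | rfl <;>
        simp only [map_mul, map_pow, map_inv, hof, genMap, Cfsg.Spor.Suz.a, Cfsg.Spor.Suz.b, Cfsg.Spor.Suz.c,
          Cfsg.Spor.Suz.d, Cfsg.Spor.Suz.e, Cfsg.Spor.Suz.f, Cfsg.Spor.Suz.g]
      · rw [R.cd4, mul_inv_cancel]
      · rw [← R.a_eq, mul_inv_cancel]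
      · exact R.abcf5
      · exact R.bfg5
      · exact R.wt3
  let φ : Cfsg.Spor.Suz →* G := PresentedGroup.toGroup (f := genMap a b c d t f g) hrel
  obtain ⟨hs, hcard⟩ := InvChar.Coset.Suz.simple_and_card
  haveI := hs
  haveI : Finite Cfsg.Spor.Suz := Nat.finite_of_card_ne_zero (by rw [hcard]; norm_num)
  have hinj : Function.Injective φ := by
    rw [← MonoidHom.ker_eq_bot_iff]
    refine (IsSimpleGroup.eq_bot_or_eq_top_of_normal φ.ker inferInstance).resolve_right fun e => ?_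
    refine H.ne_one ?_
    have h := PresentedGroup.toGroup.of hrel (x := Cfsg.Spor.Suz.Gen.e)
    have hk : PresentedGroup.of Cfsg.Spor.Suz.Gen.e ∈ φ.ker := by rw [e]; exact mem_top _
    exact h.symm.trans (MonoidHom.mem_ker.1 hk)
  have hbij : Function.Bijective φ := by
    haveI : Fintype G := Fintype.ofFinite G
    haveI : Fintype Cfsg.Spor.Suz := Fintype.ofFinite _
    exact (Fintype.bijective_iff_injective_and_card φ).2
      ⟨hinj, by rw [← Nat.card_eq_fintype_card, ← Nat.card_eq_fintype_card, hcard, H.card_G]⟩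
  exact ⟨(MulEquiv.ofBijective φ hbij).symm⟩

/-- The recognition from the hypotheses on the centralizer of a large extraspecial involution. -/
theorem isoSuz (z : G) (hz : orderOf z = 2) (Q : Subgroup (centralizer ({z} : Set G))) [Q.Normal]
    (hF : Cfsg.generalizedFittingSubgroup (centralizer ({z} : Set G)) = Q) (hQ : Cfsg.IsExtraspecial 2 Q)
    (hcard : Nat.card Q = 2 ^ 7)
    (e : (centralizer ({z} : Set G)) ⧸ Q ≃* Cfsg.Omega (ZMod 2) (Cfsg.quadFormMinus 2 (ZMod 2) 1 1))
    (hnwc : ∃ g : G, (∃ hq : g * z * g⁻¹ ∈ centralizer ({z} : Set G),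
      (⟨g * z * g⁻¹, hq⟩ : centralizer ({z} : Set G)) ∈ Q) ∧ g * z * g⁻¹ ≠ z) :
    Cfsg.Spor.IsoSuz G := by
  classical
  let C := centralizer ({z} : Set G)
  set Q0 := Q.map C.subtype with hQ0
  have hc0 : Nat.card ↥Q0 = 128 := by
    rw [hQ0, card_map_of_injective C.subtype_injective, hcard]; norm_num
  have h : Ctr Q0 z := Ctr.of_fitting hz (map_subtype_le _) (by rw [hF])
    (isExtraspecial_of_equiv hQ (Q.equivMapOfInjective _ C.subtype_injective))
  obtain ⟨g, ⟨hgC, hgQ⟩, hgz⟩ := hnwc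
  have hgQ0 : g * z * g⁻¹ ∈ Q0 := ⟨_, hgQ, rfl⟩
  have P := (Pair.mk' h hgQ0 hgz).two (by omega)
  have ha1 : g * z * g⁻¹ ≠ 1 := fun e0 => h.ne_one (conj_eq_one_iff.1 e0)
  have haa : g * z * g⁻¹ * (g * z * g⁻¹) = 1 := by
    calc g * z * g⁻¹ * (g * z * g⁻¹) = g * (z * z) * g⁻¹ := by group
      _ = 1 := by rw [h.zz]; group
  have heF : Cfsg.Omega (ZMod 2) (Cfsg.quadFormMinus 2 (ZMod 2) 1 1) ≃*
      ↥(Cfsg.Omega (ZMod 2) ⇑F6) := by
    rw [show F6 = Classical.OrthForms.minQ (ZMod 2) 2 1 1 from rfl, Classical.OrthForms.minQ_eq]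
  let π0 : ↥C →* ↥(Cfsg.Omega (ZMod 2) ⇑F6) :=
    heF.toMonoidHom.comp (e.toMonoidHom.comp (QuotientGroup.mk' Q))
  have hsurj : Function.Surjective π0 :=
    heF.surjective.comp (e.surjective.comp (QuotientGroup.mk'_surjective Q))
  have hker : ∀ c, π0 c = 1 ↔ (c : G) ∈ Q0 := fun c => by
    show heF (e (QuotientGroup.mk' Q c)) = 1 ↔ _
    rw [MulEquiv.map_eq_one_iff, MulEquiv.map_eq_one_iff]
    refine (QuotientGroup.eq_one_iff c).trans ⟨fun hc => ⟨c, hc, rfl⟩, ?_⟩
    rintro ⟨d, hd, hdc⟩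
    rwa [← Subtype.ext hdc]
  obtain ⟨F⟩ := frame_exists h hc0 π0 hsurj hker hgQ0 haa ha1 hgz
  let S : St Q0 _ z (g * z * g⁻¹) := ⟨P, F⟩
  obtain ⟨y, ⟨D⟩⟩ := exists_rot S hc0
  obtain ⟨t, H⟩ := exists_sec D
  exact isoSuz_of_sec H

end Cfsg.Agent.SuzukiRecog
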