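import Mathlib

/-!
The generators of `PSL₃(4)` attached to a subgroup `A₆`: the statement.
-/

set_option autoImplicit false

namespace Cfsg.Agent.SuzukiRecog

/-- Five generators, and an element `t₀` giving `c` as a commutator. -/
structure PlaneGens {M : Type*} [Group M] (A : Subgroup M) (a b c f g t₀ : M) : Prop where
  a_mem : a ∈ A
  b_mem : b ∈ A
  f_mem : f ∈ A
  g_mem : g ∈ A
  gen_A : Subgroup.closure ({a, b, f, g} : Set M) = A
  gen_top : Subgroup.closure ({a, b, c, f, g} : Set M) = ⊤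
  aa : a * a = 1
  bb : b * b = 1
  cc : c * c = 1
  ff : f * f = 1
  gg : g * g = 1
  ab5 : (a * b) ^ 5 = 1
  bc3 : (b * c) ^ 3 = 1
  bf3 : (b * f) ^ 3 = 1
  bg3 : (b * g) ^ 3 = 1
  fg4 : (f * g) ^ 4 = 1
  ac : a * c = c * a
  af : a * f = f * a
  ag : a * g = g * a
  cf : c * f = f * c
  cg : c * g = g * c
  a_eq : a = (f * g) ^ 2
  abcf5 : (a * b * c * f) ^ 5 = 1
  bfg5 : (b * f * g) ^ 5 = 1
  a_ne : a ≠ 1
  bac_ne : (b * (a * c)) ^ 3 ≠ 1
  bcfg7 : orderOf (b * c * f * g) = 7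
  t_sq : t₀ * t₀ = 1
  at_comm : a * t₀ = t₀ * a
  c_eq : f * g * t₀ * (f * g)⁻¹ * t₀⁻¹ = c
  cent : ∀ x : M, x * f = f * x → x * g = g * x → x = 1 ∨ x = a ∨ x = c ∨ x = a * c

end Cfsg.Agent.SuzukiRecog
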