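import Cfsg.Agent.Lib.SuzukiRecog.PlaneDecode
import Cfsg.Agent.Lib.SuzukiRecog.PlaneGensDef
import Cfsg.Agent.GroupStructure3.AutAltSix

/-!
A subgroup `A₆` of `PSL₃(4)` extends to five generators with the relations of the Suzuki group.
-/

set_option autoImplicit false
set_option linter.all false
set_option maxRecDepth 100000

namespace Cfsg.Agent.SuzukiRecog

open Matrix PlaneCode

universe u

variable {F : Type u} [Field F] [Fintype F]

local notation "M3" => Matrix (Fin 3) (Fin 3) F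
local notation "SL3" => Matrix.SpecialLinearGroup (Fin 3) F
local notation "P3" => Matrix.ProjectiveSpecialLinearGroup (Fin 3) F
local notation "A6" => alternatingGroup (Fin 6)

namespace Alt

open Equiv in
/-- The model generators. -/
def ma : A6 := ⟨swap 0 1 * swap 2 3, Equiv.Perm.mem_alternatingGroup.mpr (by decide)⟩
open Equiv in
def mb : A6 := ⟨swap 1 2 * swap 3 4, Equiv.Perm.mem_alternatingGroup.mpr (by decide)⟩
open Equiv in
def mf : A6 := ⟨swap 0 3 * swap 1 2, Equiv.Perm.mem_alternatingGroup.mpr (by decide)⟩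
open Equiv in
def mg : A6 := ⟨swap 0 1 * swap 4 5, Equiv.Perm.mem_alternatingGroup.mpr (by decide)⟩

theorem rels : ma * ma = 1 ∧ mb * mb = 1 ∧ mf * mf = 1 ∧ mg * mg = 1 ∧ ma ≠ 1 ∧ mf ≠ 1 ∧ mg ≠ 1 ∧
    (ma * mb) ^ 5 = 1 ∧ ma * mb ≠ 1 ∧ (mb * mf) ^ 3 = 1 ∧ (mb * mg) ^ 3 = 1 ∧ (mf * mg) ^ 2 = ma ∧
    ma * mf = mf * ma ∧ ma * mg = mg * ma ∧
    GroupStructure3.AutAltSix.ga = ma ∧ GroupStructure3.AutAltSix.gb = mb * mf * mg * mb := by
  decide +kernel

theorem gen : Subgroup.closure ({ma, mb, mf, mg} : Set A6) = ⊤ := by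
  rw [eq_top_iff, ← GroupStructure3.AutAltSix.gen_top, Subgroup.closure_le]
  set H := Subgroup.closure ({ma, mb, mf, mg} : Set A6)
  have h : ∀ x ∈ ({ma, mb, mf, mg} : Set A6), x ∈ H := fun x hx => Subgroup.subset_closure hx
  have hb := h mb (by simp)
  rintro x (rfl | rfl)
  · rw [rels.2.2.2.2.2.2.2.2.2.2.2.2.2.2.1]; exact h ma (by simp)
  · rw [rels.2.2.2.2.2.2.2.2.2.2.2.2.2.2.2]
    exact mul_mem (mul_mem (mul_mem hb (h mf (by simp))) (h mg (by simp))) hb

end Alt

namespace PlaneCode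

variable (D : Read F)

/-- Every involution has a lift whose square is one. -/
theorem lift_sq {x : P3} (hx : x * x = 1) : ∃ M : SL3, (M : M3) * (M : M3) = 1 ∧ QuotientGroup.mk M = x := by
  induction x using QuotientGroup.induction_on with
  | _ M =>
  obtain ⟨c, hc3, hc⟩ := Matrix.SpecialLinearGroup.mem_center_iff.1
    ((QuotientGroup.eq_one_iff (M * M)).1 (by rw [QuotientGroup.mk_mul]; exact hx) :
      M * M ∈ Subgroup.center SL3)
  rw [Fintype.card_fin] at hc3
  have hMM : (M : M3) * (M : M3) = c • (1 : M3) := by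
    rw [← Matrix.SpecialLinearGroup.coe_mul, ← hc, Matrix.scalar_apply, Matrix.smul_one_eq_diagonal]
  refine ⟨⟨c • (M : M3), by rw [det_smul, M.2, Fintype.card_fin, hc3, one_mul]⟩, ?_,
    CIT.Gen.mk_eq_mk_of_scalar (c := c) rfl⟩
  show c • (M : M3) * (c • (M : M3)) = 1
  rw [smul_mul_smul_comm, hMM, smul_smul, show c * c * c = 1 by rw [← hc3]; ring, one_smul]

theorem det_inv0 : (D.dec inv0).det = 1 := by
  rw [det_fin_three]; simp [Read.dec, inv0, Read.v]

/-- The standard involution. -/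
noncomputable def s0 : P3 := QuotientGroup.mk ⟨D.dec inv0, det_inv0 D⟩

theorem is_inv0 : Is D inv0 (s0 D) := ⟨_, rfl, rfl⟩

theorem orderOf_s0 : orderOf (s0 D) = 2 := by
  refine orderOf_eq_prime ?_ fun e => ?_
  · rw [pow_two]
    refine (Is.sc_iff D ((is_inv0 D).mul D (is_inv0 D))).1 ?_
    decide
  · have := (Is.sc_iff D (is_inv0 D)).2 e
    simp [sc, inv0] at this

/-- An involution with product of order five with the standard one. -/
theorem exists_other {b : P3} (hb : b * b = 1) (h5 : (s0 D * b) ^ 5 = 1) (hne : s0 D * b ≠ 1) :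
    ∃ al ∈ [1, 2, 3], ∃ s ∈ [0, 1, 2, 3], ∃ t ∈ [0, 1, 2, 3], ∃ r ∈ [0, 1, 2, 3],
      Is D (other al s t r) b := by
  classical
  have h2 := D.two
  obtain ⟨V, hVV, rfl⟩ := lift_sq hb
  have hdd : ∀ x : M3, x + x = 0 := fun x => by rw [← two_smul F x, h2, zero_smul]
  set N : M3 := (V : M3) - 1 with hNdef
  have hV : (V : M3) = 1 + N := by rw [hNdef, add_sub_cancel]
  have hN : N * N = 0 := by
    rw [hV, mul_add, add_mul, add_mul, one_mul, one_mul, mul_one, add_assoc, ← add_assoc N N,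
      hdd, zero_add] at hVV
    exact add_eq_left.1 hVV
  have hN0 : N ≠ 0 := fun e => by
    have hV1 : V = 1 := Subtype.ext (by rw [hV, e, add_zero, Matrix.SpecialLinearGroup.coe_one])
    rw [hV1, QuotientGroup.mk_one, mul_one] at h5 hne
    have := orderOf_dvd_of_pow_eq_one h5
    rw [orderOf_s0] at this
    norm_num at this
  obtain ⟨y, ψ, hyψ⟩ := SuzukiLocal.PlaneModel.exists_vecMulVec hN0 hN
  have hE : D.dec inv0 = 1 + SuzukiLocal.PlaneModel.eMat := by
    ext i j
    fin_cases i <;> fin_cases j <;>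
      simp [Read.dec, inv0, Read.v, SuzukiLocal.PlaneModel.eMat]
  have h10 : N 1 0 ≠ 0 := by
    intro e
    have h4 : (s0 D * QuotientGroup.mk V) ^ 4 = 1 := by
      obtain ⟨E0, hE0, hE0'⟩ := is_inv0 D
      rw [← hE0', ← QuotientGroup.mk_mul, ← QuotientGroup.mk_pow]
      refine (congrArg _ (Subtype.ext ?_ : (E0 * V) ^ 4 = 1)).trans rfl
      rw [Matrix.SpecialLinearGroup.coe_pow, Matrix.SpecialLinearGroup.coe_mul,
        Matrix.SpecialLinearGroup.coe_one, hE0]
      rw [hE, hV]
      exact SuzukiLocal.PlaneModel.pow_four_eq_one h2 SuzukiLocal.PlaneModel.eMat_sq hN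
        (by rw [SuzukiLocal.PlaneModel.eMat_mul_mul, e, zero_smul])
        (by rw [SuzukiLocal.PlaneModel.mul_eMat_mul hyψ, e, zero_smul])
    refine hne ?_
    rw [pow_succ, h4, one_mul] at h5
    exact h5
  rw [hyψ, vecMulVec_apply] at h10
  obtain ⟨h1, h0⟩ := mul_ne_zero_iff.1 h10
  obtain ⟨al, hal, eal⟩ := D.v_surj (y 1 * ψ 0)
  obtain ⟨s, hs, es⟩ := D.v_surj (y 0 * ψ 0)
  obtain ⟨t, ht, et⟩ := D.v_surj (y 2 * ψ 0)
  obtain ⟨r, hr, er⟩ := D.v_surj (ψ 2 / ψ 0)
  have hal0 : D.v al ≠ 0 := by rw [eal]; exact mul_ne_zero h1 h0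
  have hal' : al % 4 ≠ 0 := fun e => hal0 (D.v_eq_zero.2 e)
  have hdot : ψ 0 * y 0 + ψ 1 * y 1 + ψ 2 * y 2 = 0 := by
    have h := congrFun (congrFun hN 1) 0
    rw [hyψ] at h
    simp [Matrix.mul_apply, Fin.sum_univ_three, vecMulVec_apply] at h
    have : y 1 * ψ 0 * (ψ 0 * y 0 + ψ 1 * y 1 + ψ 2 * y 2) = 0 := by linear_combination h
    exact (mul_eq_zero.1 this).resolve_left h10
  refine ⟨al, ?_, s, ?_, t, ?_, r, ?_, V, ?_, rfl⟩
  · simp only [List.mem_cons, List.not_mem_nil, or_false]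
    rw [Nat.mod_eq_of_lt hal] at hal'; omega
  · simp only [List.mem_cons, List.not_mem_nil, or_false]; omega
  · simp only [List.mem_cons, List.not_mem_nil, or_false]; omega
  · simp only [List.mem_cons, List.not_mem_nil, or_false]; omega
  have hv1 : D.v 1 = 1 := by simp [Read.v]
  have hinv : D.v (finv al) = (y 1 * ψ 0)⁻¹ := by
    rw [← eal]; exact eq_inv_of_mul_eq_one_left (D.v_inv hal')
  rw [hV, hyψ]
  simp only [other, Read.dec, D.v_add, D.v_mul, hv1, eal, es, et, er, hinv]
  have hu : y 1 * ψ 1 = y 0 * ψ 0 + y 2 * ψ 2 := by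
    linear_combination hdot - (y 0 * ψ 0 + y 2 * ψ 2) * h2
  ext i j
  fin_cases i <;> fin_cases j <;> simp [vecMulVec_apply, Matrix.one_apply] <;> field_simp <;>
    first
      | ring1
      | linear_combination hu
      | linear_combination (ψ 0 * y 0) * hu
      | linear_combination y 0 * hu
      | linear_combination y 1 * hu
      | linear_combination y 2 * hu
      | grind

theorem is_cent {x u v : ℕ} (hx : x < 4) (hu : u < 4) (hv : v < 4) :
    ∃ p : P3, Is D (cent x u v) p := by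
  refine ⟨_, ⟨D.dec (cent x u v), ?_⟩, rfl, rfl⟩
  rw [det_fin_three]; simp [Read.dec, cent, Read.v]

/-- The centralizer of the standard involution. -/
theorem mem_cents {x : P3} (hx : x * s0 D = s0 D * x) : ∃ A ∈ cents, Is D A x := by
  classical
  have h2 := D.two
  induction x using QuotientGroup.induction_on with
  | _ M =>
  obtain ⟨E0, hE0, hE0'⟩ := is_inv0 D
  rw [← hE0', ← QuotientGroup.mk_mul, ← QuotientGroup.mk_mul] at hx
  obtain ⟨c, hc3, hc⟩ := Matrix.SpecialLinearGroup.mem_center_iff.1 (QuotientGroup.eq.1 hx.symm)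
  have hME : (M : M3) * D.dec inv0 = c • (D.dec inv0 * (M : M3)) := by
    have e : M * E0 = E0 * M * ((E0 * M)⁻¹ * (M * E0)) := (mul_inv_cancel_left _ _).symm
    have e' : ((M * E0 : SL3) : M3) = ((E0 * M : SL3) : M3) * ((((E0 * M)⁻¹ * (M * E0)) : SL3) : M3) := by
      conv_lhs => rw [e]
      exact Matrix.SpecialLinearGroup.coe_mul _ _
    erw [← hc] at e'
    rw [Matrix.SpecialLinearGroup.coe_mul, Matrix.SpecialLinearGroup.coe_mul, Matrix.scalar_apply,
      ← Matrix.smul_one_eq_diagonal, mul_smul_comm, mul_one, hE0] at e'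
    exact e'
  have hEE : D.dec inv0 * D.dec inv0 = 1 := by
    rw [← D.dec_mul]
    ext i j
    fin_cases i <;> fin_cases j <;> simp [Read.dec, inv0, PlaneCode.mul, dot3, fadd, fmul, Read.v]
  have hc1 : c = 1 := by
    have h : (M : M3) = (c * c) • (M : M3) := by
      calc (M : M3) = (M : M3) * D.dec inv0 * D.dec inv0 := by rw [mul_assoc, hEE, mul_one]
        _ = c • (D.dec inv0 * ((M : M3) * D.dec inv0)) := by
          conv_lhs => rw [hME]
          rw [smul_mul_assoc, mul_assoc]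
        _ = _ := by rw [hME, mul_smul_comm, smul_smul, ← mul_assoc, hEE, one_mul]
    have hd := congrArg Matrix.det h
    rw [det_smul, M.2, Fintype.card_fin, mul_one] at hd
    rw [Fintype.card_fin] at hc3
    have hc0 : c ≠ 0 := fun e => by rw [e, zero_pow (by norm_num)] at hc3; exact zero_ne_one hc3
    have hcc : c * c = 1 := by
      have h' : (c * c - 1) • (M : M3) = 0 := by rw [sub_smul, one_smul, ← h, sub_self]
      rcases smul_eq_zero.1 h' with h'' | h''
      · exact sub_eq_zero.1 h''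
      · exfalso
        have := M.2
        rw [h'', det_zero] at this
        exact zero_ne_one this
    have : (c - 1) * (c - 1) = 0 := by linear_combination hcc - (c - 1) * h2
    exact sub_eq_zero.1 (mul_self_eq_zero.1 this)
  rw [hc1, one_smul] at hME
  have E := fun i j => congrFun (congrFun hME i) j
  have e01 := E 0 1; have e00 := E 0 0; have e02 := E 0 2; have e21 := E 2 1
  simp [Read.dec, inv0, Read.v, Matrix.mul_apply, Fin.sum_univ_three] at e01 e00 e02 e21
  set p := (M : M3) 0 0 with hp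
  have m10 : (M : M3) 1 0 = 0 := by linear_combination e00
  have m12 : (M : M3) 1 2 = 0 := by linear_combination e02
  have m20 : (M : M3) 2 0 = 0 := by linear_combination e21
  have m11 : (M : M3) 1 1 = p := by linear_combination -e01
  have hdet := M.2
  rw [det_fin_three, m10, m12, m20, m11, ← hp] at hdet
  have hdet' : p * p * (M : M3) 2 2 = 1 := by linear_combination hdet
  have hp0 : p ≠ 0 := fun e => by rw [e] at hdet'; simp at hdet'
  have hp3 : p ^ 3 = 1 := CIT.Gen.pow_three_eq_one D.h4 hp0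
  have m22 : (M : M3) 2 2 = p := by linear_combination p * hdet' - (M : M3) 2 2 * hp3
  obtain ⟨a, ha, ea⟩ := D.v_surj (p⁻¹ * (M : M3) 0 1)
  obtain ⟨b, hb, eb⟩ := D.v_surj (p⁻¹ * (M : M3) 0 2)
  obtain ⟨e, he, ee⟩ := D.v_surj (p⁻¹ * (M : M3) 2 1)
  obtain ⟨_, N, hN, -⟩ := is_cent D ha hb he
  refine ⟨cent a b e, ?_, N, hN, CIT.Gen.mk_eq_mk_of_scalar (c := p⁻¹) ?_⟩
  · simp only [cents, List.mem_flatMap, List.mem_map, List.mem_cons, List.not_mem_nil, or_false]
    exact ⟨a, by omega, b, by omega, e, by omega, rfl⟩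
  rw [hN]
  have hv1 : D.v 1 = 1 := by simp [Read.v]
  have hv0 : D.v 0 = 0 := by simp [Read.v]
  ext i j
  fin_cases i <;> fin_cases j <;>
    simp [Read.dec, cent, hv1, hv0, ea, eb, ee, m10, m12, m20, m11, m22, ← hp, hp0]

/-- An element commuting with the standard involution has two-power order. -/
theorem cent_two_group {x : P3} (hx : x * s0 D = s0 D * x) : orderOf x ∣ 64 := by
  obtain ⟨A, hA, IA⟩ := mem_cents D hx
  have key : cents.all (fun A => let A2 := PlaneCode.mul A A; sc (PlaneCode.mul A2 A2)) = true := by decide +kernel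
  have h := List.all_eq_true.1 key A hA
  refine dvd_trans (orderOf_dvd_of_pow_eq_one (n := 4) ?_) (by norm_num)
  rw [← (Is.sc_iff D ((IA.mul D IA).mul D (IA.mul D IA))).1 h]
  simp only [pow_succ, pow_zero, one_mul, mul_assoc]

/-- What the check gives. -/
theorem check_spec {al s t r : ℕ} (h1 : al ∈ [1, 2, 3]) (h2 : s ∈ [0, 1, 2, 3]) (h3 : t ∈ [0, 1, 2, 3])
    (h4 : r ∈ [0, 1, 2, 3]) : checkB (other al s t r) = true := by
  have h := check_eq
  simp only [check, List.all_eq_true] at h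
  exact h al h1 s h2 t h3 r h4

end PlaneCode

/-- `PlaneGens` is transported by isomorphisms. -/
theorem PlaneGens.map {M N : Type*} [Group M] [Group N] (φ : M ≃* N) {A : Subgroup M}
    {a b c f g t₀ : M} (h : PlaneGens A a b c f g t₀) :
    PlaneGens (A.map φ.toMonoidHom) (φ a) (φ b) (φ c) (φ f) (φ g) (φ t₀) where
  a_mem := ⟨a, h.a_mem, rfl⟩
  b_mem := ⟨b, h.b_mem, rfl⟩
  f_mem := ⟨f, h.f_mem, rfl⟩
  g_mem := ⟨g, h.g_mem, rfl⟩
  gen_A := by
    rw [← h.gen_A, MonoidHom.map_closure]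
    simp [Set.image_insert_eq]
  gen_top := by
    have := congrArg (Subgroup.map φ.toMonoidHom) h.gen_top
    rw [MonoidHom.map_closure, Subgroup.map_top_of_surjective _ φ.surjective] at this
    simpa [Set.image_insert_eq] using this
  aa := by rw [← map_mul, h.aa, map_one]
  bb := by rw [← map_mul, h.bb, map_one]
  cc := by rw [← map_mul, h.cc, map_one]
  ff := by rw [← map_mul, h.ff, map_one]
  gg := by rw [← map_mul, h.gg, map_one]
  ab5 := by rw [← map_mul, ← map_pow, h.ab5, map_one]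
  bc3 := by rw [← map_mul, ← map_pow, h.bc3, map_one]
  bf3 := by rw [← map_mul, ← map_pow, h.bf3, map_one]
  bg3 := by rw [← map_mul, ← map_pow, h.bg3, map_one]
  fg4 := by rw [← map_mul, ← map_pow, h.fg4, map_one]
  ac := by rw [← map_mul, h.ac, map_mul]
  af := by rw [← map_mul, h.af, map_mul]
  ag := by rw [← map_mul, h.ag, map_mul]
  cf := by rw [← map_mul, h.cf, map_mul]
  cg := by rw [← map_mul, h.cg, map_mul]
  a_eq := by rw [← map_mul, ← map_pow, ← h.a_eq]
  abcf5 := by simp only [← map_mul, ← map_pow, h.abcf5, map_one]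
  bfg5 := by simp only [← map_mul, ← map_pow, h.bfg5, map_one]
  a_ne := fun e => h.a_ne (φ.injective (e.trans φ.map_one.symm))
  bac_ne := fun e => h.bac_ne (φ.injective (by simpa using e))
  bcfg7 := by simp only [← map_mul, MulEquiv.orderOf_eq, h.bcfg7]
  t_sq := by rw [← map_mul, h.t_sq, map_one]
  at_comm := by rw [← map_mul, h.at_comm, map_mul]
  c_eq := by simp only [← map_mul, ← map_inv, h.c_eq]
  cent := fun x hf hg => by
    obtain ⟨x, rfl⟩ := φ.surjective x
    rcases h.cent x (φ.injective (by simpa using hf)) (φ.injective (by simpa using hg)) with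
      e | e | e | e <;> subst e <;> simp

/-- A transitive action on eight points of a simple group of order 20160 with one class of involutions. -/
theorem no_eight {P : Type*} [Group P] [Finite P] [IsSimpleGroup P] (hP : Nat.card P = 20160)
    (hcl : ∀ x y : P, orderOf x = 2 → orderOf y = 2 → IsConj x y) (K : Subgroup P)
    (hK : K.index = 8) : False := by
  classical
  haveI : Fintype (P ⧸ K) := Fintype.ofFinite _
  have hc : Fintype.card (P ⧸ K) = 8 := by rw [← Nat.card_eq_fintype_card]; exact hK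
  let ε := Fintype.equivFinOfCardEq hc
  let φ : P →* Equiv.Perm (Fin 8) := ε.permCongrHom.toMonoidHom.comp (MulAction.toPermHom P (P ⧸ K))
  have hφ : Function.Injective φ := by
    refine ε.permCongrHom.injective.comp ?_
    refine (MonoidHom.ker_eq_bot_iff _).1 ((IsSimpleGroup.eq_bot_or_eq_top_of_normal _ inferInstance).resolve_right
      fun e => ?_)
    rw [← Subgroup.normalCore_eq_ker] at e
    have : K = ⊤ := eq_top_iff.2 (e ▸ K.normalCore_le)
    rw [this, Subgroup.index_top] at hK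
    norm_num at hK
  have hi : φ.range.index = 2 := by
    have h := φ.range.card_mul_index
    rw [Nat.card_congr (MonoidHom.ofInjective hφ).toEquiv.symm, hP, Nat.card_perm, Nat.card_fin,
      show Nat.factorial 8 = 40320 from rfl] at h
    omega
  have hA := Equiv.Perm.eq_alternatingGroup_of_index_eq_two hi
  have hmem : ∀ p : Equiv.Perm (Fin 8), Equiv.Perm.sign p = 1 → ∃ x, φ x = p := fun p hp => by
    rw [← MonoidHom.mem_range, hA]; exact hp
  obtain ⟨u, hu⟩ := hmem (Equiv.swap 0 1 * Equiv.swap 2 3) (by decide)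
  obtain ⟨v, hv⟩ := hmem (Equiv.swap 0 1 * Equiv.swap 2 3 * (Equiv.swap 4 5 * Equiv.swap 6 7)) (by decide)
  have ho : ∀ x : P, φ x * φ x = 1 → φ x ≠ 1 → orderOf x = 2 := fun x h1 h2 =>
    orderOf_eq_prime (hφ (by rw [pow_two, map_mul, h1, map_one])) fun e => h2 (by rw [e, map_one])
  have h := φ.map_isConj (hcl u v (ho u (by rw [hu]; decide) (by rw [hu]; decide))
    (ho v (by rw [hv]; decide) (by rw [hv]; decide)))
  rw [hu, hv, Equiv.Perm.isConj_iff_cycleType_eq] at h
  revert h
  decide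

/-- The relations give a subgroup of index at most eight. -/
theorem top_of_relations {P : Type*} [Group P] [Finite P] [IsSimpleGroup P] (hP : Nat.card P = 20160)
    (hcl : ∀ x y : P, orderOf x = 2 → orderOf y = 2 → IsConj x y) (K : Subgroup P)
    (h360 : 360 ∣ Nat.card K) (h7 : 7 ∣ Nat.card K) : K = ⊤ := by
  classical
  by_contra hne
  have hm := K.card_mul_index
  rw [hP] at hm
  have h2520 : 2520 ∣ Nat.card K := Nat.Coprime.mul_dvd_of_dvd_of_dvd (by norm_num : Nat.Coprime 360 7) h360 h7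
  obtain ⟨j, hj⟩ := h2520
  rw [hj, mul_assoc] at hm
  have hi8 : K.index ∣ 8 := Dvd.intro_left j (by omega)
  have hi := (Nat.dvd_prime_pow Nat.prime_two (m := 3)).1 (show K.index ∣ 2 ^ 3 from hi8)
  obtain ⟨k, hk, he⟩ := hi
  haveI : Fintype (P ⧸ K) := Fintype.ofFinite _
  have hφ : Function.Injective (MulAction.toPermHom P (P ⧸ K)) := by
    refine (MonoidHom.ker_eq_bot_iff _).1 ((IsSimpleGroup.eq_bot_or_eq_top_of_normal _ inferInstance).resolve_right
      fun e => ?_)
    rw [← Subgroup.normalCore_eq_ker] at e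
    exact hne (eq_top_iff.2 (e ▸ K.normalCore_le))
  have hle := Nat.card_le_card_of_injective _ hφ
  rw [hP, Nat.card_perm, ← Subgroup.index_eq_card, he] at hle
  interval_cases k
  · norm_num [Nat.factorial] at hle
  · norm_num [Nat.factorial] at hle
  · norm_num [Nat.factorial] at hle
  · exact no_eight hP hcl K (he.trans (by norm_num))

namespace PlaneCode

theorem four_sub_five {M : Type*} (a b c f g : M) : ({a, b, f, g} : Set M) ⊆ {a, b, c, f, g} := by
  intro y hy
  simp only [Set.mem_insert_iff, Set.mem_singleton_iff] at hy ⊢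
  tauto

set_option maxHeartbeats 1000000 in
theorem exists_gens (D : Read F) (A : Subgroup P3) (e : A ≃* A6) :
    ∃ a b c f g t₀ : P3, PlaneGens A a b c f g t₀ := by
  classical
  set ι : A6 →* P3 := A.subtype.comp e.symm.toMonoidHom with hι
  have hιinj : Function.Injective ι := A.subtype_injective.comp e.symm.injective
  have hι1 : ∀ x, ι x = 1 → x = 1 := fun x h => hιinj (h.trans ι.map_one.symm)
  obtain ⟨raa, rbb, rff, rgg, rane, rfne, rgne, rab, rabne, rbf, rbg, rfg, raf, rag, -, -⟩ := Alt.rels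
  haveI : Fact (Nat.Prime 2) := ⟨Nat.prime_two⟩
  have hoa : orderOf (ι Alt.ma) = 2 :=
    orderOf_eq_prime (by rw [pow_two, ← map_mul, raa, map_one]) fun h => rane (hι1 _ h)
  obtain ⟨k, hk⟩ := isConj_iff.1 (CIT.Gen.oneClass_three_four D.h4 _ _ hoa (orderOf_s0 D))
  set κ : A6 →* P3 := (MulAut.conj k).toMonoidHom.comp ι with hκ
  have hκinj : Function.Injective κ := (MulAut.conj k).injective.comp hιinj
  have hκ1 : ∀ x, κ x = 1 → x = 1 := fun x h => hκinj (h.trans κ.map_one.symm)
  have hka : κ Alt.ma = s0 D := hk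
  set a := κ Alt.ma with ha
  set b := κ Alt.mb with hb
  set f := κ Alt.mf with hf
  set g := κ Alt.mg with hg
  have bb : b * b = 1 := by rw [hb, ← map_mul, rbb, map_one]
  have ff : f * f = 1 := by rw [hf, ← map_mul, rff, map_one]
  have gg : g * g = 1 := by rw [hg, ← map_mul, rgg, map_one]
  have ab5 : (a * b) ^ 5 = 1 := by rw [ha, hb, ← map_mul, ← map_pow, rab, map_one]
  have abne : a * b ≠ 1 := fun h => rabne (hκ1 _ (by rw [map_mul]; exact h))
  have bf3 : (b * f) ^ 3 = 1 := by rw [hb, hf, ← map_mul, ← map_pow, rbf, map_one]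
  have bg3 : (b * g) ^ 3 = 1 := by rw [hb, hg, ← map_mul, ← map_pow, rbg, map_one]
  have a_eq : a = (f * g) ^ 2 := by rw [ha, hf, hg, ← map_mul, ← map_pow, rfg]
  have af : a * f = f * a := by rw [ha, hf, ← map_mul, raf, map_mul]
  have ag : a * g = g * a := by rw [ha, hg, ← map_mul, rag, map_mul]
  have aa : a * a = 1 := by rw [ha, ← map_mul, raa, map_one]
  have fne : f ≠ 1 := fun h => rfne (hκ1 _ h)
  have gne : g ≠ 1 := fun h => rgne (hκ1 _ h)
  have Ia : Is D inv0 a := hka ▸ is_inv0 D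
  obtain ⟨al, h1, s, h2, t, h3, r, h4, Ib⟩ := exists_other D bb (by rw [← hka]; exact ab5)
    (by rw [← hka]; exact abne)
  obtain ⟨Cf, hCf, If⟩ := mem_cents D (x := f) (by rw [← hka]; exact af.symm)
  obtain ⟨Cg, hCg, Ig⟩ := mem_cents D (x := g) (by rw [← hka]; exact ag.symm)
  have chk := check_spec h1 h2 h3 h4
  generalize other al s t r = B at Ib chk
  have Iab := Ia.mul D Ib
  have hp5 : (a * b) * ((a * b) * (a * b) * ((a * b) * (a * b))) = 1 := by
    rw [← ab5]; simp only [pow_succ, pow_zero, one_mul, mul_assoc]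
  have isF_of : ∀ {X : C3} {x : P3}, Is D X x → x ≠ 1 → x * x = 1 → (b * x) ^ 3 = 1 → isF B X = true := by
    intro X x IX hx1 hxx h3
    simp only [isF, Bool.and_eq_true, Bool.not_eq_true']
    refine ⟨⟨?_, (Is.sc_iff D (IX.mul D IX)).2 hxx⟩, (Is.sc_iff D ((Ib.mul D IX).mul D ((Ib.mul D IX).mul D (Ib.mul D IX)))).2 ?_⟩
    · rw [Bool.eq_false_iff]; exact fun h => hx1 ((Is.sc_iff D IX).1 h)
    · rw [← h3]; simp only [pow_succ, pow_zero, one_mul, mul_assoc]
  simp only [checkB, Bool.or_eq_true, Bool.not_eq_true', List.all_eq_true, List.mem_filter] at chk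
  rcases chk with (h | h) | chk
  · exact absurd ((Is.sc_iff D Iab).1 h) abne
  · rw [Bool.eq_false_iff] at h
    exact absurd ((Is.sc_iff D (Iab.mul D ((Iab.mul D Iab).mul D (Iab.mul D Iab)))).2 hp5) h
  rcases chk Cf ⟨hCf, isF_of If fne ff bf3⟩ Cg ⟨hCg, isF_of Ig gne gg bg3⟩ with h | h
  · rw [Bool.eq_false_iff] at h
    exact absurd ((Is.sc_iff D (((If.mul D Ig).mul D (If.mul D Ig)).mul D Ia)).2
      (by rw [← pow_two, ← a_eq, aa])) h
  simp only [List.any_eq_true] at h
  obtain ⟨x, hx, v, hv, hct⟩ := h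
  simp only [List.mem_cons, List.not_mem_nil, or_false] at hx hv
  obtain ⟨c, Ic⟩ := is_cent D (x := x) (u := 0) (v := 0) (by omega) (by norm_num) (by norm_num)
  obtain ⟨t₀, It⟩ := is_cent D (x := 0) (u := 0) (v := v) (by norm_num) (by norm_num) (by omega)
  generalize cent x 0 0 = Cc at Ic hct
  generalize cent 0 0 v = Ct at It hct
  simp only [isCT, Bool.and_eq_true, Bool.not_eq_true', Bool.eq_false_iff, ne_eq] at hct
  obtain ⟨⟨⟨⟨⟨⟨⟨⟨⟨⟨⟨⟨⟨k1, k2⟩, k3⟩, k4⟩, k5⟩, k6⟩, k7⟩, k8⟩, k9⟩, k10⟩, k11⟩, k12⟩, k13⟩, k14⟩ := hct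
  have Ifg := If.mul D Ig
  have Ibc := Ib.mul D Ic
  have Iw1 := Ia.mul D (Ib.mul D (Ic.mul D If))
  have Iw2 := Ib.mul D (If.mul D Ig)
  have Iw3 := Ib.mul D (Ia.mul D Ic)
  have Iw4 := Ib.mul D (Ic.mul D (If.mul D Ig))
  have cc : c * c = 1 := (Is.sc_iff D (Ic.mul D Ic)).1 k1
  have inv2 : ∀ {x y : P3}, x * x = 1 → y * y = 1 → x * y * (x * y) = 1 → x * y = y * x := by
    intro x y hx hy h
    calc x * y = x * (x * y * (x * y)) * y := by rw [h, mul_one]
      _ = (x * x) * (y * x) * (y * y) := by simp only [mul_assoc]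
      _ = y * x := by rw [hx, hy, one_mul, mul_one]
  have cf := inv2 cc ff ((Is.sc_iff D ((Ic.mul D If).mul D (Ic.mul D If))).1 k3)
  have cg := inv2 cc gg ((Is.sc_iff D ((Ic.mul D Ig).mul D (Ic.mul D Ig))).1 k4)
  have ac := inv2 aa cc ((Is.sc_iff D ((Ia.mul D Ic).mul D (Ia.mul D Ic))).1 k5)
  have bc3 : (b * c) ^ 3 = 1 := by
    rw [← (Is.sc_iff D (Ibc.mul D (Ibc.mul D Ibc))).1 k2]; simp only [pow_succ, pow_zero, one_mul, mul_assoc]
  have abcf5 : (a * b * c * f) ^ 5 = 1 := by
    rw [← (Is.sc_iff D (Iw1.mul D ((Iw1.mul D Iw1).mul D (Iw1.mul D Iw1)))).1 k6]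
    simp only [pow_succ, pow_zero, one_mul, mul_assoc]
  have bfg5 : (b * f * g) ^ 5 = 1 := by
    rw [← (Is.sc_iff D (Iw2.mul D ((Iw2.mul D Iw2).mul D (Iw2.mul D Iw2)))).1 k7]
    simp only [pow_succ, pow_zero, one_mul, mul_assoc]
  have bac : (b * (a * c)) ^ 3 ≠ 1 := fun h =>
    k8 ((Is.sc_iff D (Iw3.mul D (Iw3.mul D Iw3))).2 (by
      rw [← h]; simp only [pow_succ, pow_zero, one_mul, mul_assoc]))
  have seven : orderOf (b * c * f * g) = 7 := by
    haveI : Fact (Nat.Prime 7) := ⟨by norm_num⟩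
    refine orderOf_eq_prime ?_ fun h => k9 ((Is.sc_iff D Iw4).2 (by simpa only [mul_assoc] using h))
    rw [← (Is.sc_iff D (Iw4.mul D ((Iw4.mul D Iw4).mul D ((Iw4.mul D Iw4).mul D (Iw4.mul D Iw4))))).1 k10]
    simp only [pow_succ, pow_zero, one_mul, mul_assoc]
  have tt : t₀ * t₀ = 1 := (Is.sc_iff D (It.mul D It)).1 k11
  have at' := inv2 aa tt ((Is.sc_iff D ((Ia.mul D It).mul D (Ia.mul D It))).1 k12)
  have fg4 : (f * g) ^ 4 = 1 := by rw [show (4 : ℕ) = 2 * 2 from rfl, pow_mul, ← a_eq, pow_two, aa]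
  have c_eq : f * g * t₀ * (f * g)⁻¹ * t₀⁻¹ = c := by
    have h13 := (Is.sc_iff D ((Ifg.mul D It).mul D (((Ifg.mul D (Ifg.mul D Ifg)).mul D It).mul D Ic))).1 k13
    have e3 : (f * g)⁻¹ = f * g * (f * g * (f * g)) := inv_eq_of_mul_eq_one_right (by
      rw [← fg4]; simp only [pow_succ, pow_zero, one_mul, mul_assoc])
    have et : t₀⁻¹ = t₀ := inv_eq_of_mul_eq_one_right tt
    rw [← e3] at h13
    have hc1 : f * g * t₀ * (f * g)⁻¹ * t₀ * c = 1 := by rw [← h13]; simp only [mul_assoc]
    rw [et]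
    calc f * g * t₀ * (f * g)⁻¹ * t₀ = f * g * t₀ * (f * g)⁻¹ * t₀ * (c * c) := by rw [cc, mul_one]
      _ = f * g * t₀ * (f * g)⁻¹ * t₀ * c * c := by simp only [mul_assoc]
      _ = c := by rw [hc1, one_mul]
  have cent' : ∀ y : P3, y * f = f * y → y * g = g * y → y = 1 ∨ y = a ∨ y = c ∨ y = a * c := by
    intro y hyf hyg
    have hya : y * a = a * y := by
      rw [a_eq]; exact ((show Commute y f from hyf).mul_right hyg).pow_right 2
    obtain ⟨Cy, hCy, Iy⟩ := mem_cents D (x := y) (by rw [← hka]; exact hya)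
    simp only [List.all_eq_true, Bool.or_eq_true, Bool.not_eq_true', Bool.and_eq_false_iff] at k14
    have y4 : ∀ {u : P3}, u * u = 1 → y * u = u * y → u * y * (u * (y * (y * y))) = y ^ 4 := by
      intro u hu h
      calc u * y * (u * (y * (y * y))) = u * (y * u) * (y * (y * y)) := by simp only [mul_assoc]
        _ = u * (u * y) * (y * (y * y)) := by rw [h]
        _ = (u * u) * (y * (y * (y * y))) := by simp only [mul_assoc]
        _ = _ := by rw [hu, one_mul]; simp only [pow_succ, pow_zero, one_mul, mul_assoc]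
    have hy4 : y ^ 4 = 1 := by
      have h := SuzukiLocal.PlaneModel.psl_order_mem D.h4 y
      have hd : orderOf y ∣ 4 := by
        have hC : orderOf y ∣ 64 := cent_two_group D (by rw [← hka]; exact hya)
        simp only [List.mem_cons, List.not_mem_nil, or_false] at h
        rcases h with h | h | h | h | h | h <;> rw [h] at hC ⊢ <;> omega
      exact orderOf_dvd_iff_pow_eq_one.1 hd
    have hsf : sc (PlaneCode.mul (PlaneCode.mul Cf Cy) (PlaneCode.mul Cf (PlaneCode.mul Cy (PlaneCode.mul Cy Cy)))) = true :=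
      (Is.sc_iff D ((If.mul D Iy).mul D (If.mul D (Iy.mul D (Iy.mul D Iy))))).2 (by rw [y4 ff hyf, hy4])
    have hsg : sc (PlaneCode.mul (PlaneCode.mul Cg Cy) (PlaneCode.mul Cg (PlaneCode.mul Cy (PlaneCode.mul Cy Cy)))) = true :=
      (Is.sc_iff D ((Ig.mul D Iy).mul D (Ig.mul D (Iy.mul D (Iy.mul D Iy))))).2 (by rw [y4 gg hyg, hy4])
    have hinv : ∀ {u : P3} {U : C3}, Is D U u → u * u = 1 → eqv Cy U = true → y = u := fun IU hu h => by
      have := (Is.sc_iff D (Iy.mul D IU)).1 h
      exact (eq_inv_of_mul_eq_one_left this).trans (inv_eq_of_mul_eq_one_right hu)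
    rcases k14 Cy hCy with (((h | h) | h) | h) | h
    · rcases h with h | h
      · rw [hsf] at h; exact absurd h (by decide)
      · rw [hsg] at h; exact absurd h (by decide)
    · exact Or.inl ((Is.sc_iff D Iy).1 h)
    · exact Or.inr (Or.inl (hinv Ia aa h))
    · exact Or.inr (Or.inr (Or.inl (hinv Ic cc h)))
    · refine Or.inr (Or.inr (Or.inr (hinv (Ia.mul D Ic) ?_ h)))
      rw [mul_assoc, ← mul_assoc c, ← ac, mul_assoc, cc, mul_one, aa]
  set A' := A.map (MulAut.conj k).toMonoidHom with hA'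
  have hrange : κ.range = A' := by
    rw [hκ, MonoidHom.range_eq_map, ← Subgroup.map_map, ← MonoidHom.range_eq_map, hι, MonoidHom.range_eq_map,
      ← Subgroup.map_map, Subgroup.map_top_of_surjective _ e.symm.surjective, ← MonoidHom.range_eq_map,
      Subgroup.range_subtype]
  have hgenA : Subgroup.closure ({a, b, f, g} : Set P3) = A' := by
    rw [← hrange, MonoidHom.range_eq_map, ← Alt.gen, MonoidHom.map_closure]
    simp [Set.image_insert_eq, ha, hb, hf, hg]
  have hgenTop : Subgroup.closure ({a, b, c, f, g} : Set P3) = ⊤ := by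
    haveI : IsSimpleGroup P3 := Classical.Linear.isSimpleGroup_PSL_fin (by norm_num) (fun h => by omega)
    refine top_of_relations (L34Mult.card_psl D.h4) (CIT.Gen.oneClass_three_four D.h4) _ ?_ ?_
    · have hcA : Nat.card A' = 360 := by
        rw [← hrange, Nat.card_congr (MonoidHom.ofInjective hκinj).toEquiv.symm]
        have := two_mul_nat_card_alternatingGroup (α := Fin 6)
        rw [Nat.card_perm, Nat.card_fin] at this
        norm_num [Nat.factorial] at this ⊢
        omega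
      rw [← hcA]
      refine Subgroup.card_dvd_of_le ?_
      rw [← hgenA]
      exact Subgroup.closure_mono (four_sub_five a b c f g)
    · rw [← seven]
      refine Subgroup.orderOf_dvd_natCard _ ?_
      exact mul_mem (mul_mem (mul_mem (Subgroup.subset_closure (by simp)) (Subgroup.subset_closure (by simp)))
        (Subgroup.subset_closure (by simp))) (Subgroup.subset_closure (by simp))
  have main : PlaneGens A' a b c f g t₀ :=
    { a_mem := hrange ▸ ⟨_, rfl⟩, b_mem := hrange ▸ ⟨_, rfl⟩, f_mem := hrange ▸ ⟨_, rfl⟩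
      g_mem := hrange ▸ ⟨_, rfl⟩, gen_A := hgenA, gen_top := hgenTop
      aa := aa, bb := bb, cc := cc, ff := ff, gg := gg, ab5 := ab5, bc3 := bc3, bf3 := bf3, bg3 := bg3
      fg4 := fg4, ac := ac, af := af, ag := ag, cf := cf, cg := cg, a_eq := a_eq, abcf5 := abcf5
      bfg5 := bfg5, a_ne := fun h => rane (hκ1 _ h), bac_ne := bac, bcfg7 := seven, t_sq := tt
      at_comm := at', c_eq := c_eq, cent := cent' }
  have hback := main.map (MulAut.conj k).symm
  rw [hA', Subgroup.map_map] at hback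
  rw [show ((MulAut.conj k).symm.toMonoidHom).comp (MulAut.conj k).toMonoidHom = MonoidHom.id P3 from
    MonoidHom.ext fun y => (MulAut.conj k).symm_apply_apply y, Subgroup.map_id] at hback
  exact ⟨_, _, _, _, _, _, hback⟩

end PlaneCode

/-- A subgroup `A₆` of `PSL₃(4)` extends to the generators. -/
theorem planeGens (h4 : Fintype.card F = 4) (A : Subgroup P3) (e : A ≃* A6) :
    ∃ a b c f g t₀ : P3, PlaneGens A a b c f g t₀ := by
  obtain ⟨w, hw⟩ := exists_omega h4
  exact PlaneCode.exists_gens ⟨h4, w, hw⟩ A e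

end Cfsg.Agent.SuzukiRecog
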