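import Cfsg.Agent.Lib.SuzukiRecog.Setup
import Cfsg.Agent.Lib.SuzukiRecog.PlaneGens
import Cfsg.Agent.Lib.SuzukiLocal.Seven

/-!
Five generators in `C(E)` and an element `d` centralizing four of them.
-/

set_option autoImplicit false
set_option linter.all false
set_option maxRecDepth 8000
set_option synthInstance.maxSize 4096

namespace Cfsg.Agent.SuzukiRecog

open Subgroup SuzukiLocal SuzukiType SuzukiThree LargeExtra

theorem alt4_checks :
    (∀ p q r : alternatingGroup (Fin 4), q * q = 1 → q ≠ 1 → r * r = 1 → p * q = q * p → p * r = r * p) ∧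
    (∀ w e : alternatingGroup (Fin 4), w ^ 3 = 1 → w ≠ 1 → e * e = 1 → e ≠ 1 → (w * e) ^ 3 = 1) := by
  decide +kernel

theorem alt5_checks :
    (∀ p : alternatingGroup (Fin 5), p * p = 1 → p ≠ 1 →
      ∃ d : alternatingGroup (Fin 5), d * d = 1 ∧ d ≠ p ∧ (d * p) ^ 3 = 1) ∧
    (∀ p : alternatingGroup (Fin 5), p * p = 1 → p ≠ 1 → ∀ q : alternatingGroup (Fin 5), q * q = 1 → q ≠ 1 →
      p * q = q * p → p ≠ q → ∃ y : alternatingGroup (Fin 5), y * p * y⁻¹ = q ∧ y * q * y⁻¹ = p * q) := by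
  decide +kernel

theorem zmod7_checks : (∀ a : Multiplicative (ZMod 7), a * a = 1 → a = 1) ∧
    ∀ a : Multiplicative (ZMod 7), a ^ 3 = 1 → a = 1 := by decide +kernel

universe v

variable {G : Type v} [Group G] [Finite G]

theorem sq_of_invol {x y : G} (hx : x * x = 1) (hy : y * y = 1) (h : x * y = y * x) {n : ℕ}
    (hp : (x * y) ^ (2 * n + 1) = 1) : x = y := by
  have h2 : (x * y) ^ 2 = 1 := by rw [pow_two, (show Commute y x from h.symm).mul_mul_mul_comm , hx, hy, one_mul]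
  rw [pow_succ, pow_mul, h2, one_pow, one_mul] at hp
  exact (eq_inv_of_mul_eq_one_left hp).trans (inv_eq_of_mul_eq_one_right hy)

/-- Commuting inside the centralizer of an element of order seven. -/
theorem seven_facts {z t : G} {E : Subgroup G} (F : Facts z t E) {v : G} (hv : orderOf v = 7) :
    (∀ p q r : G, p * v = v * p → q * v = v * q → r * v = v * r → q * q = 1 → q ≠ 1 → r * r = 1 →
      p * q = q * p → p * r = r * p) ∧
    (∀ w e : G, w * v = v * w → e * v = v * e → w ^ 3 = 1 → w ≠ 1 → e * e = 1 → e ≠ 1 → (w * e) ^ 3 = 1) := by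
  haveI : Fact (Nat.Prime 7) := ⟨by norm_num⟩
  obtain ⟨B, hB⟩ := (IsPGroup.of_card (G := zpowers v) (n := 1)
    (by rw [Nat.card_zpowers, hv, pow_one])).exists_le_sylow
  have hBv : zpowers v = (B : Subgroup G) :=
    eq_of_le_of_card_ge hB (by rw [F.seven_card B, Nat.card_zpowers, hv])
  obtain ⟨ε⟩ := (F.sylow_seven B).1
  have hC : centralizer ((B : Subgroup G) : Set G) = centralizer ({v} : Set G) := by
    rw [← hBv, zpowers_eq_closure, centralizer_closure]
  have hm : ∀ {x : G}, x * v = v * x → x ∈ centralizer ((B : Subgroup G) : Set G) :=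
    fun h => hC ▸ mem_centralizer_singleton_iff.2 h
  have hz := zmod7_checks.1
  have hz3 := zmod7_checks.2
  constructor
  · intro p q r hp hq hr hqq hq1 hrr hpq
    set P := ε ⟨p, hm hp⟩
    set Q := ε ⟨q, hm hq⟩ with hQ
    set R := ε ⟨r, hm hr⟩
    have e1 : Q * Q = 1 := by rw [hQ, ← map_mul, show (⟨q, hm hq⟩ * ⟨q, hm hq⟩ : centralizer ((B : Subgroup G) : Set G)) = 1 from Subtype.ext hqq, map_one]
    have e2 : R * R = 1 := by rw [← map_mul, show (⟨r, hm hr⟩ * ⟨r, hm hr⟩ : centralizer ((B : Subgroup G) : Set G)) = 1 from Subtype.ext hrr, map_one]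
    have e3 : P * Q = Q * P := by rw [← map_mul, ← map_mul]; exact congrArg ε (Subtype.ext hpq)
    have e4 : Q.2 ≠ 1 := fun e => hq1 (congrArg Subtype.val (ε.injective (((Prod.ext (hz _ (congrArg Prod.fst e1)) e : Q = 1)).trans (map_one ε).symm)))
    have e5 : P * R = R * P := Prod.ext (mul_comm _ _)
      (alt4_checks.1 P.2 Q.2 R.2 (congrArg Prod.snd e1) e4 (congrArg Prod.snd e2) (congrArg Prod.snd e3))
    rw [← map_mul, ← map_mul] at e5
    exact congrArg Subtype.val (ε.injective e5)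
  · intro w e hw he hw3 hw1 hee he1
    set W := ε ⟨w, hm hw⟩ with hW
    set X := ε ⟨e, hm he⟩ with hX
    have e1 : W ^ 3 = 1 := by rw [hW, ← map_pow, show (⟨w, hm hw⟩ : centralizer ((B : Subgroup G) : Set G)) ^ 3 = 1 from Subtype.ext hw3, map_one]
    have e2 : X * X = 1 := by rw [hX, ← map_mul, show (⟨e, hm he⟩ * ⟨e, hm he⟩ : centralizer ((B : Subgroup G) : Set G)) = 1 from Subtype.ext hee, map_one]
    have w4 : W.2 ≠ 1 := fun h => hw1 (congrArg Subtype.val (ε.injective (((Prod.ext (hz3 _ (congrArg Prod.fst e1)) h : W = 1)).trans (map_one ε).symm)))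
    have x4 : X.2 ≠ 1 := fun h => he1 (congrArg Subtype.val (ε.injective (((Prod.ext (hz _ (congrArg Prod.fst e2)) h : X = 1)).trans (map_one ε).symm)))
    have e3 : (W * X) ^ 3 = 1 := Prod.ext
      (by show (W.1 * X.1) ^ 3 = 1; rw [hz _ (congrArg Prod.fst e2), mul_one]; exact congrArg Prod.fst e1)
      (alt4_checks.2 W.2 X.2 (congrArg Prod.snd e1) w4 (congrArg Prod.snd e2) x4)
    rw [← map_mul, ← map_pow, MulEquiv.map_eq_one_iff] at e3
    exact congrArg Subtype.val e3

variable {Q Q' : Subgroup G} {z a' y : G} {D : Su Q Q' z a' y} {t : G}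

/-- The generators, with what is known about them so far. -/
structure Gens (H : Sec D t) (a b c d f g r : G) : Prop where
  za : ZT z t a
  zb : ZT z t b
  zc : ZT z t c
  zf : ZT z t f
  zg : ZT z t g
  ab5 : (a * b) ^ 5 = 1
  bc3 : (b * c) ^ 3 = 1
  bf3 : (b * f) ^ 3 = 1
  bg3 : (b * g) ^ 3 = 1
  fg4 : (f * g) ^ 4 = 1
  ac : a * c = c * a
  af : a * f = f * a
  ag : a * g = g * a
  cf : c * f = f * c
  cg : c * g = g * c
  a_eq : a = (f * g) ^ 2
  abcf5 : (a * b * c * f) ^ 5 = 1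
  bfg5 : (b * f * g) ^ 5 = 1
  bac : (b * (a * c)) ^ 3 ∉ H.E
  cent : ∀ x ∈ centralizer (H.E : Set G), x * f = f * x → x * g = g * x →
    x ∈ H.E ∨ x⁻¹ * a ∈ H.E ∨ x⁻¹ * c ∈ H.E ∨ x⁻¹ * (a * c) ∈ H.E
  t₁ : ∃ t₁ u : G, u ∈ H.E ∧ a * t₁ = t₁ * a ∧ t₁ ∈ centralizer (H.E : Set G) ∧
    f * g * t₁ * (f * g)⁻¹ * t₁⁻¹ = c * u
  seven : orderOf ((b * c * f * g) ^ 2) = 7
  dd : d * d = 1
  ad : a * d = d * a
  bd : b * d = d * b
  df : d * f = f * d
  dg : d * g = g * d
  dt : (d * t) ^ 3 = 1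
  d_ne : d ≠ t
  r_five : orderOf r = 5
  ra : r * a = a * r
  rf : r * f = f * r
  rg : r * g = g * r
  hall : ∀ x : G, orderOf x = 2 → x * r = r * x → IsConj x z
  card_D : Nat.card (centralizer ({a, b, f, g} : Set G)) = 60

theorem mem_cent4 {a b f g x : G} (ha : x * a = a * x) (hb : x * b = b * x) (hf : x * f = f * x) (hg : x * g = g * x) :
    x ∈ centralizer ({a, b, f, g} : Set G) := by
  refine mem_centralizer_iff.2 fun w hw => ?_
  rcases hw with rfl | rfl | rfl | rfl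
  exacts [ha.symm, hb.symm, hf.symm, hg.symm]

theorem exists_gens (H : Sec D t) : ∃ a b c d f g r : G, Gens H a b c d f g r := by
  classical
  have F := H.facts
  haveI : Fact (Nat.Prime 5) := ⟨Nat.prime_five⟩
  haveI : Fact (Nat.Prime 2) := ⟨Nat.prime_two⟩
  obtain ⟨f0, r, S⟩ := exists_six F
  set K := centralizer (H.E : Set G) with hK
  let φ : A6 →* H.Mq := H.pr.comp (f0.codRestrict K S.cent)
  have hzM : ∀ u : A6, f0 u * f0 u = 1 → f0 u ≠ 1 → ZT z t (f0 u) := fun u h h1 =>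
    ⟨(H.mem_cent_E.1 (S.cent u)).1, h, S.hall _ (orderOf_eq_prime (by rw [pow_two, h]) h1) (S.comm u)⟩
  have hfM : ∀ u : A6, f0 u ∈ H.E → u = 1 := fun u hu => S.inj (by
    rw [map_one]
    by_contra h1
    exact H.E_not_z hu (hzM u (F.E_sq _ hu) h1).conj)
  have hφi : Function.Injective φ := (injective_iff_map_eq_one φ).2 fun u hu => hfM u ((H.pr_one_iff _).1 hu)
  obtain ⟨Fld, i1, i2, h4, ⟨e⟩⟩ := H.exists_model
  let A := (e.toMonoidHom.comp φ).range
  obtain ⟨A0, B0, C0, Fa, Ga, T0, hP0⟩ := planeGens h4 A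
    (MonoidHom.ofInjective (e.injective.comp hφi : Function.Injective (e.toMonoidHom.comp φ))).symm
  have hP := hP0.map e.symm
  set abar := e.symm A0
  set bbar := e.symm B0
  set cbar := e.symm C0
  set fbar := e.symm Fa
  set gbar := e.symm Ga
  set tbar := e.symm T0
  have hrange : ∀ {x : H.Mq}, x ∈ A.map e.symm.toMonoidHom → ∃ u, φ u = x := by
    rintro _ ⟨_, ⟨u, rfl⟩, rfl⟩
    exact ⟨u, (e.symm_apply_apply _).symm⟩
  obtain ⟨ua, hua⟩ := hrange hP.a_mem
  obtain ⟨ub, hub⟩ := hrange hP.b_mem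
  obtain ⟨uf, huf⟩ := hrange hP.f_mem
  obtain ⟨ug, hug⟩ := hrange hP.g_mem
  have hlift : ∀ {u : A6}, φ u = 1 → f0 u = 1 := fun h => by rw [hφi (h.trans (map_one φ).symm), map_one]
  have hlift2 : ∀ {u v : A6}, φ u = φ v → f0 u = f0 v := fun h => congrArg f0 (hφi h)
  have hb1 : bbar ≠ 1 := fun h => hP.a_ne (by
    have := hP.ab5
    rwa [h, mul_one, show 5 = 2 * 2 + 1 by norm_num, pow_succ, pow_mul, pow_two abar, hP.aa, one_pow, one_mul] at this)
  have hf1 : fbar ≠ 1 := fun h => hP.a_ne (by rw [hP.a_eq, h, one_mul, pow_two, hP.gg])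
  have hg1 : gbar ≠ 1 := fun h => hP.a_ne (by rw [hP.a_eq, h, mul_one, pow_two, hP.ff])
  have hc1 : cbar ≠ 1 := fun h => hb1 (by
    have := hP.bc3
    rwa [h, mul_one, pow_succ, pow_two, hP.bb, one_mul] at this)
  have hinv : ∀ {u : A6} {x : H.Mq}, φ u = x → x * x = 1 → x ≠ 1 → ZT z t (f0 u) := fun {u x} hu h h1 =>
    hzM u (by rw [← map_mul]; exact hlift (by rw [map_mul, hu, h])) fun h' => h1 (by
      rw [← hu, S.inj (h'.trans (map_one f0).symm), map_one])
  set a := f0 ua with ha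
  set b := f0 ub with hb
  set f := f0 uf with hf
  set g := f0 ug with hg
  have za : ZT z t a := hinv hua hP.aa hP.a_ne
  have zb : ZT z t b := hinv hub hP.bb hb1
  have zf : ZT z t f := hinv huf hP.ff hf1
  have zg : ZT z t g := hinv hug hP.gg hg1
  obtain ⟨c, zc, hc⟩ := H.lift (q := cbar) (orderOf_eq_prime (by rw [pow_two, hP.cc]) hc1)
  have ba : H.bar za = abar := hua
  have bb : H.bar zb = bbar := hub
  have bf : H.bar zf = fbar := huf
  have bg : H.bar zg = gbar := hug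
  have ac : a * c = c * a := H.exact_comm zc (x := ⟨a, H.zt_cent za⟩) (by
    show H.bar za * H.bar zc = H.bar zc * H.bar za
    rw [ba, hc, hP.ac])
  have cf : c * f = f * c := H.exact_comm zf (x := ⟨c, H.zt_cent zc⟩) (by
    show H.bar zc * H.bar zf = H.bar zf * H.bar zc
    rw [bf, hc, hP.cf])
  have cg : c * g = g * c := H.exact_comm zg (x := ⟨c, H.zt_cent zc⟩) (by
    show H.bar zc * H.bar zg = H.bar zg * H.bar zc
    rw [bg, hc, hP.cg])
  have af : a * f = f * a := by rw [← map_mul, ← map_mul]; exact hlift2 (by rw [map_mul, map_mul, hua, huf, hP.af])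
  have ag : a * g = g * a := by rw [← map_mul, ← map_mul]; exact hlift2 (by rw [map_mul, map_mul, hua, hug, hP.ag])
  have ab5 : (a * b) ^ 5 = 1 := by
    rw [← map_mul, ← map_pow]; exact hlift (by rw [map_pow, map_mul, hua, hub, hP.ab5])
  have bf3 : (b * f) ^ 3 = 1 := by
    rw [← map_mul, ← map_pow]; exact hlift (by rw [map_pow, map_mul, hub, huf, hP.bf3])
  have bg3 : (b * g) ^ 3 = 1 := by
    rw [← map_mul, ← map_pow]; exact hlift (by rw [map_pow, map_mul, hub, hug, hP.bg3])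
  have fg4 : (f * g) ^ 4 = 1 := by
    rw [← map_mul, ← map_pow]; exact hlift (by rw [map_pow, map_mul, huf, hug, hP.fg4])
  have bfg5 : (b * f * g) ^ 5 = 1 := by
    rw [← map_mul, ← map_mul, ← map_pow]; exact hlift (by rw [map_pow, map_mul, map_mul, hub, huf, hug, hP.bfg5])
  have a_eq : a = (f * g) ^ 2 := by
    rw [← map_mul, ← map_pow]; exact hlift2 (by rw [map_pow, map_mul, hua, huf, hug]; exact hP.a_eq)
  -- elements of `C(E)` as elements of the quotient
  have hbc : (b * c) ^ 3 = 1 := by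
    set k : K := ⟨b, H.zt_cent zb⟩ * ⟨c, H.zt_cent zc⟩ with hk
    have hu : (b * c) ^ 3 ∈ H.E := (H.pr_one_iff (k ^ 3)).1 (by
      rw [map_pow, hk, map_mul]
      show (H.bar zb * H.bar zc) ^ 3 = 1
      rw [bb, hc, hP.bc3])
    set u := (b * c) ^ 3 with hudef
    have hcu : u * c = c * u := (mem_centralizer_iff.1 (H.zt_cent zc) u hu)
    refine H.zt_uniq zc hu ?_
    have e1 : b * c * b * (b * c)⁻¹ = u * c := by
      rw [hudef, mul_inv_rev, inv_eq_of_mul_eq_one_right zb.sq, inv_eq_of_mul_eq_one_right zc.sq,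
        pow_succ, pow_two]
      simp only [mul_assoc, zc.sq, mul_one]
    rw [← hcu, ← e1]
    exact (isConj_iff.2 ⟨b * c, rfl⟩ : IsConj b _).symm.trans zb.conj
  have bac : (b * (a * c)) ^ 3 ∉ H.E := fun h => hP.bac_ne (by
    have := (H.pr_one_iff ((⟨b, H.zt_cent zb⟩ * (⟨a, H.zt_cent za⟩ * ⟨c, H.zt_cent zc⟩) : K) ^ 3)).2 h
    rw [map_pow, map_mul, map_mul] at this
    change (H.bar zb * (H.bar za * H.bar zc)) ^ 3 = 1 at this
    rwa [bb, ba, hc] at this)
  have hcent : ∀ x ∈ K, x * f = f * x → x * g = g * x →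
      x ∈ H.E ∨ x⁻¹ * a ∈ H.E ∨ x⁻¹ * c ∈ H.E ∨ x⁻¹ * (a * c) ∈ H.E := fun x hx hxf hxg => by
    have h1 : H.pr ⟨x, hx⟩ * fbar = fbar * H.pr ⟨x, hx⟩ := by
      rw [← bf, Sec.bar, ← map_mul, ← map_mul]; exact congrArg _ (Subtype.ext hxf)
    have h2 : H.pr ⟨x, hx⟩ * gbar = gbar * H.pr ⟨x, hx⟩ := by
      rw [← bg, Sec.bar, ← map_mul, ← map_mul]; exact congrArg _ (Subtype.ext hxg)
    rcases hP.cent _ h1 h2 with h | h | h | h
    · exact Or.inl ((H.pr_one_iff _).1 h)
    · exact Or.inr (Or.inl ((H.pr_eq_iff _ ⟨a, H.zt_cent za⟩).1 (h.trans ba.symm)))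
    · exact Or.inr (Or.inr (Or.inl ((H.pr_eq_iff _ ⟨c, H.zt_cent zc⟩).1 (h.trans hc.symm))))
    · refine Or.inr (Or.inr (Or.inr ((H.pr_eq_iff ⟨x, hx⟩ (⟨a, H.zt_cent za⟩ * ⟨c, H.zt_cent zc⟩)).1 ?_)))
      rw [h, map_mul, ← ba, ← hc]
      rfl
  obtain ⟨t1, ht1⟩ := QuotientGroup.mk'_surjective H.EC tbar
  have ht₁ : ∃ t₁ u : G, u ∈ H.E ∧ a * t₁ = t₁ * a ∧ t₁ ∈ K ∧ f * g * t₁ * (f * g)⁻¹ * t₁⁻¹ = c * u := by
    refine ⟨t1, c⁻¹ * (f * g * t1 * (f * g)⁻¹ * (t1 : G)⁻¹), ?_,
      (H.exact_comm za (x := t1) (by rw [ba, ht1, hP.at_comm])).symm, t1.2, (mul_inv_cancel_left _ _).symm⟩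
    refine (H.pr_eq_iff ⟨c, H.zt_cent zc⟩
      (⟨f, H.zt_cent zf⟩ * ⟨g, H.zt_cent zg⟩ * t1 * (⟨f, H.zt_cent zf⟩ * ⟨g, H.zt_cent zg⟩)⁻¹ * t1⁻¹)).1 ?_
    simp only [map_mul, map_inv, ht1]
    show H.bar zc = H.bar zf * H.bar zg * tbar * (H.bar zf * H.bar zg)⁻¹ * tbar⁻¹
    rw [hc, bf, bg, hP.c_eq]
  -- the element of order seven
  set v := (b * c * f * g) ^ 2 with hv
  have hv7 : orderOf v = 7 := by
    haveI : Fact (Nat.Prime 7) := ⟨by norm_num⟩
    set k : K := ⟨b, H.zt_cent zb⟩ * ⟨c, H.zt_cent zc⟩ * ⟨f, H.zt_cent zf⟩ * ⟨g, H.zt_cent zg⟩ with hk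
    have hkpr : H.pr k = bbar * cbar * fbar * gbar := by
      rw [hk, map_mul, map_mul, map_mul, ← bb, ← hc, ← bf, ← bg]; rfl
    refine orderOf_eq_prime ?_ fun h => ?_
    · have h7 : (b * c * f * g) ^ 7 ∈ H.E := (H.pr_one_iff (k ^ 7)).1 (by
        rw [map_pow, hkpr, ← hP.bcfg7, pow_orderOf_eq_one])
      rw [hv, ← pow_mul, show 2 * 7 = 7 * 2 by norm_num, pow_mul, pow_two, F.E_sq _ h7]
    · have h1 : (H.pr k) ^ 2 = 1 := by
        rw [← map_pow, show k ^ 2 = 1 from Subtype.ext h, map_one]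
      rw [hkpr] at h1
      have := orderOf_dvd_of_pow_eq_one h1
      rw [hP.bcfg7] at this
      norm_num at this
  obtain ⟨s1, -⟩ := seven_facts F hv7
  have hEv : ∀ u ∈ H.E, u * v = v * u := fun u hu => mem_centralizer_iff.1
    (pow_mem (mul_mem (mul_mem (mul_mem (H.zt_cent zb) (H.zt_cent zc)) (H.zt_cent zf)) (H.zt_cent zg)) 2) u hu
  -- the centralizer of the four generators
  set Dc := centralizer ({a, b, f, g} : Set G) with hDc
  have hDx : ∀ {x : G}, x ∈ Dc → x * a = a * x ∧ x * b = b * x ∧ x * f = f * x ∧ x * g = g * x := fun {x} hx => by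
    have h := mem_centralizer_iff.1 hx
    exact ⟨(h a (by simp)).symm, (h b (by simp)).symm, (h f (by simp)).symm, (h g (by simp)).symm⟩
  have hED : H.E ≤ Dc := fun u hu => mem_cent4 (mem_centralizer_iff.1 (H.zt_cent za) u hu)
    (mem_centralizer_iff.1 (H.zt_cent zb) u hu) (mem_centralizer_iff.1 (H.zt_cent zf) u hu)
    (mem_centralizer_iff.1 (H.zt_cent zg) u hu)
  have hab : a * b ≠ b * a := fun h => by
    have hab' : a = b := sq_of_invol za.sq zb.sq h (n := 2) ab5
    have h3 : f = a := by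
      have h' := bf3
      rw [← hab'] at h'
      exact (sq_of_invol za.sq zf.sq af (n := 1) h').symm
    have h3' : g = a := by
      have h' := bg3
      rw [← hab'] at h'
      exact (sq_of_invol za.sq zg.sq ag (n := 1) h').symm
    exact H.zt_ne_one za (by rw [a_eq, h3, h3', za.sq, one_pow])
  have hDN : ∀ x ∈ Dc, x ∈ normalizer (H.E : Set G) → x * c = c * x := fun x hx hn => by
    obtain ⟨xa, xb, xf, xg⟩ := hDx hx
    have hn' : ∀ u ∈ H.E, x⁻¹ * u * x ∈ H.E := fun u hu => by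
      have := (mem_normalizer_iff.1 (inv_mem hn) u).1 hu
      rwa [inv_inv] at this
    set c' := x * c * x⁻¹ with hc'
    have hcK : c' ∈ K := mem_centralizer_iff.2 fun u hu => by
      have h := mem_centralizer_iff.1 (H.zt_cent zc) _ (hn' u hu)
      calc u * c' = x * (x⁻¹ * u * x * c) * x⁻¹ := by rw [hc']; group
        _ = x * (c * (x⁻¹ * u * x)) * x⁻¹ := by rw [h]
        _ = c' * u := by rw [hc']; group
    have hcomm : ∀ {w : G}, x * w = w * x → c * w = w * c → c' * w = w * c' := fun {w} hxw hcw => by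
      rw [hc']
      exact (((show Commute x w from hxw).mul_left (show Commute c w from hcw)).mul_left
        (show Commute x w from hxw).inv_left).eq
    have zc' : ZT z t c' := ⟨(H.mem_cent_E.1 hcK).1, by
      rw [hc', show x * c * x⁻¹ * (x * c * x⁻¹) = x * (c * c) * x⁻¹ by group, zc.sq]; group,
      (isConj_iff.2 ⟨x, rfl⟩ : IsConj c c').symm.trans zc.conj⟩
    rcases hcent c' hcK (hcomm xf cf) (hcomm xg cg) with h | h | h | h
    · exact absurd zc'.conj (H.E_not_z h)
    · exfalso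
      have h1 : c' = a := (inv_mul_eq_one.1 (H.zt_uniq zc' h (by rw [mul_inv_cancel_left]; exact za.conj)))
      have h2 : c = a := (MulAut.conj x).injective (h1.trans (by rw [MulAut.conj_apply, xa, mul_inv_cancel_right]))
      have h3 : (b * a) ^ 3 = 1 := by rw [← h2]; exact hbc
      refine hab ?_
      have h4 : (b * a) ^ 5 = 1 := by
        rw [show b * a = a⁻¹ * (a * b) * a⁻¹⁻¹ by group, conj_pow, ab5]; group
      have h5 : b * a = 1 := by
        calc b * a = ((b * a) ^ 3) ^ 2 * ((b * a) ^ 5)⁻¹ := by group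
          _ = 1 := by rw [h3, h4]; simp
      rw [eq_inv_of_mul_eq_one_left h5, mul_inv_cancel, inv_mul_cancel]
    · exact mul_inv_eq_iff_eq_mul.1 (inv_mul_eq_one.1 (H.zt_uniq zc' h (by rw [mul_inv_cancel_left]; exact zc.conj)))
    · exfalso
      have hne : a ≠ c := fun e => by
        refine hab ?_
        have h5 : (b * a) ^ 5 = 1 := by
          rw [show b * a = a⁻¹ * (a * b) * a⁻¹⁻¹ by group, conj_pow, ab5]; group
        have h3 : (b * a) ^ 3 = 1 := by rw [e]; exact hbc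
        have h' : b * a = 1 := by
          calc b * a = ((b * a) ^ 3) ^ 2 * ((b * a) ^ 5)⁻¹ := by group
            _ = 1 := by rw [h3, h5]; simp
        rw [eq_inv_of_mul_eq_one_left h', mul_inv_cancel, inv_mul_cancel]
      have h1 : c' = a * c := inv_mul_eq_one.1 (H.zt_uniq zc' h (by
        rw [mul_inv_cancel_left]; exact (H.zt_mul za zc ac hne).conj))
      refine bac ?_
      have h2 : (b * (a * c)) ^ 3 = 1 := by
        rw [← h1, hc', show b * (x * c * x⁻¹) = x * (b * c) * x⁻¹ by rw [← mul_assoc, ← mul_assoc, ← xb, mul_assoc x b c],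
          conj_pow, hbc, mul_one, mul_inv_cancel]
      rw [h2]; exact one_mem _
  have hDv : ∀ x ∈ Dc, x ∈ normalizer (H.E : Set G) → x * v = v * x := fun x hx hn => by
    obtain ⟨xa, xb, xf, xg⟩ := hDx hx
    exact (((((show Commute x b from xb).mul_right (show Commute x c from hDN x hx hn)).mul_right
      (show Commute x f from xf)).mul_right (show Commute x g from xg)).pow_right 2).eq
  -- normalizing from centralizing one involution of `E`
  have hnE : ∀ u ∈ H.E, u ≠ 1 → ∀ x : G, x * u = u * x → x ∈ normalizer (H.E : Set G) := by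
    have hyn : y ∈ normalizer (H.E : Set G) := by
      refine SuzukiLocal.mem_normalizer_of_map fun w hw => ?_
      rcases H.mem_E.1 hw with h | h | h | h <;> rw [h]
      · simp
      · exact H.mem_E.2 (Or.inr (Or.inr (Or.inl rfl)))
      · refine H.mem_E.2 (Or.inr (Or.inr (Or.inr ?_)))
        rw [← H.orb.prod]; group
      · refine H.mem_E.2 (Or.inr (Or.inl ?_))
        rw [← H.orb.prod]
        calc y * (y * y * t * (y * y)⁻¹) * y⁻¹ = y ^ 3 * t * (y ^ 3)⁻¹ := by simp [pow_succ, mul_assoc]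
          _ = t := by rw [D.y3]; group
    intro u hu hu1 x hxu
    obtain ⟨k, hk, hku⟩ : ∃ k ∈ normalizer (H.E : Set G), k * t * k⁻¹ = u := by
      rcases H.mem_E.1 hu with h | h | h | h
      · exact absurd h hu1
      · exact ⟨1, one_mem _, by rw [h]; group⟩
      · exact ⟨y, hyn, h.symm⟩
      · exact ⟨y * y, mul_mem hyn hyn, by rw [h, H.orb.prod]⟩
    have h1 : k⁻¹ * x * k ∈ normalizer (H.E : Set G) := H.norm_t (by
      calc k⁻¹ * x * k * t = k⁻¹ * (x * (k * t * k⁻¹)) * k := by group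
        _ = k⁻¹ * ((k * t * k⁻¹) * x) * k := by rw [hku, hxu]
        _ = _ := by group)
    have := mul_mem (mul_mem hk h1) (inv_mem hk)
    rwa [show k * (k⁻¹ * x * k) * k⁻¹ = x by group] at this
  have hDE : ∀ u ∈ H.E, u ≠ 1 → ∀ x ∈ Dc, x * u = u * x → x ∈ H.E := fun u hu hu1 x hx hxu => by
    have hn := hnE u hu hu1 x hxu
    obtain ⟨xa, xb, xf, xg⟩ := hDx hx
    have hxK : x ∈ K := mem_centralizer_iff.2 fun w hw =>
      (s1 x u w (hDv x hx hn) (hEv u hu) (hEv w hw) (F.E_sq u hu) hu1 (F.E_sq w hw) hxu).symm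
    rcases hcent x hxK xf xg with h | h | h | h
    · exact h
    · exfalso
      refine hab ?_
      have h' := mem_centralizer_iff.1 (H.zt_cent zb) _ h
      have h'' : Commute b (x * (x⁻¹ * a)) := (show Commute b x from xb.symm).mul_right h'.symm
      rw [mul_inv_cancel_left] at h''
      exact h''.eq.symm
    · exfalso
      have h'' : Commute b (x * (x⁻¹ * c)) :=
        (show Commute b x from xb.symm).mul_right (mem_centralizer_iff.1 (H.zt_cent zb) _ h).symm
      rw [mul_inv_cancel_left] at h''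
      have e : b = c := sq_of_invol zb.sq zc.sq h''.eq (n := 1) hbc
      exact hab (by rw [e]; exact ac)
    · exfalso
      have h'' : Commute b (x * (x⁻¹ * (a * c))) :=
        (show Commute b x from xb.symm).mul_right (mem_centralizer_iff.1 (H.zt_cent zb) _ h).symm
      rw [mul_inv_cancel_left] at h''
      set m := a * c with hm
      have hma : Commute a m := (Commute.refl a).mul_right ac
      have h3 : (b * a) ^ 3 * m ^ 3 = 1 := by
        rw [← ((show Commute b m from h'').mul_left hma).mul_pow, mul_assoc, ← mul_assoc a, za.sq, one_mul]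
        exact hbc
      have hm2 : m * m = 1 := by
        rw [hm, (show Commute c a from ac.symm).mul_mul_mul_comm, za.sq, zc.sq, one_mul]
      have h6 : (b * a) ^ 6 = 1 := by
        rw [show 6 = 3 * 2 by norm_num, pow_mul, eq_inv_of_mul_eq_one_left h3, inv_pow, ← pow_mul,
          show 3 * 2 = 2 * 3 by norm_num, pow_mul, pow_two, hm2, one_pow, inv_one]
      have h5 : (b * a) ^ 5 = 1 := by
        rw [show b * a = a⁻¹ * (a * b) * a⁻¹⁻¹ by group, conj_pow, ab5]; group
      have h1 : b * a = 1 := by rwa [pow_succ, h5, one_mul] at h6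
      exact hab (by rw [eq_inv_of_mul_eq_one_left h1, mul_inv_cancel, inv_mul_cancel])
  have hU : JankoTwo.Four.Hyp (H.E.subgroupOf Dc) := by
    refine ⟨by rw [Nat.card_congr (subgroupOfEquivOfLe hED).toEquiv, H.cardE],
      fun u hu => Subtype.ext (F.E_sq _ (mem_subgroupOf.1 hu)), fun u hu hu1 => le_antisymm ?_ ?_⟩
    · intro x hx
      exact mem_subgroupOf.2 (hDE u (mem_subgroupOf.1 hu) (fun h => hu1 (Subtype.ext h)) x x.2
        (congrArg Subtype.val (mem_centralizer_singleton_iff.1 hx)))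
    · intro x hx
      exact mem_centralizer_singleton_iff.2 (Subtype.ext (F.E_comm (mem_subgroupOf.1 hx) (mem_subgroupOf.1 hu)))
  have hr : r ∈ Dc := mem_cent4 (S.comm ua).symm (S.comm ub).symm (S.comm uf).symm (S.comm ug).symm
  have hr5 : orderOf (⟨r, hr⟩ : Dc) = 5 := by rw [Subgroup.orderOf_mk]; exact S.order
  have h60 := (hU.five hr5).1
  obtain ⟨iso⟩ : Nonempty (Dc ≃* alternatingGroup (Fin 5)) := by
    rcases hU.cases with h | ⟨-, h⟩ | h
    · rw [h] at h60; norm_num at h60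
    · rw [h] at h60; norm_num at h60
    · exact h
  have htE : t ∈ H.E := F.tE
  set e0 := y * t * y⁻¹
  have he0E : e0 ∈ H.E := H.mem_E.2 (Or.inr (Or.inr (Or.inl rfl)))
  set P : Dc := ⟨t, hED htE⟩ with hPdef
  set R : Dc := ⟨e0, hED he0E⟩ with hRdef
  have hPP : P * P = 1 := Subtype.ext H.orb.sq
  have hRR : R * R = 1 := Subtype.ext H.e_sq
  have hP1 : P ≠ 1 := fun h => H.ne_one (congrArg Subtype.val h)
  have hR1 : R ≠ 1 := fun h => H.e_ne_one (congrArg Subtype.val h)
  have hne1 : ∀ x : Dc, x ≠ 1 → iso x ≠ 1 := fun x hx h => hx (iso.injective (h.trans (map_one iso).symm))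
  obtain ⟨d0, hd1, hd2, hd3⟩ := alt5_checks.1 (iso P) (by rw [← map_mul, hPP, map_one]) (hne1 P hP1)
  obtain ⟨y0, hy1, hy2⟩ := alt5_checks.2 (iso P) (by rw [← map_mul, hPP, map_one]) (hne1 P hP1) (iso R)
    (by rw [← map_mul, hRR, map_one]) (hne1 R hR1)
    (by rw [← map_mul, ← map_mul]; exact congrArg iso (Subtype.ext (F.E_comm htE he0E)))
    fun h => H.e_ne (congrArg Subtype.val (iso.injective h)).symm
  obtain ⟨d, rfl⟩ := iso.surjective d0
  obtain ⟨y', rfl⟩ := iso.surjective y0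
  rw [← map_inv, ← map_mul, ← map_mul, iso.injective.eq_iff] at hy1
  rw [← map_inv, ← map_mul, ← map_mul, ← map_mul, iso.injective.eq_iff] at hy2
  have ey1 : (y' : G) * t * (y' : G)⁻¹ = e0 := congrArg Subtype.val hy1
  have ey2 : (y' : G) * e0 * (y' : G)⁻¹ = t * e0 := congrArg Subtype.val hy2
  have hy'n : (y' : G) ∈ normalizer (H.E : Set G) := by
    refine SuzukiLocal.mem_normalizer_of_map fun w hw => ?_
    rcases H.mem_E.1 hw with h | h | h | h <;> rw [h]
    · simp
    · rw [ey1]; exact he0E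
    · rw [ey2]; exact mul_mem htE he0E
    · rw [show (y' : G) * (t * e0) * (y' : G)⁻¹ = ((y' : G) * t * (y' : G)⁻¹) * ((y' : G) * e0 * (y' : G)⁻¹) by group,
        ey1, ey2]
      exact mul_mem he0E (mul_mem htE he0E)
  obtain ⟨ya, yb, yf, yg⟩ := hDx y'.2
  have yc := hDN y' y'.2 hy'n
  have abcf5 : (a * b * c * f) ^ 5 = 1 := by
    set k : K := ⟨a, H.zt_cent za⟩ * ⟨b, H.zt_cent zb⟩ * ⟨c, H.zt_cent zc⟩ * ⟨f, H.zt_cent zf⟩ with hk
    have hu : (a * b * c * f) ^ 5 ∈ H.E := (H.pr_one_iff (k ^ 5)).1 (by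
      rw [map_pow, hk, map_mul, map_mul, map_mul]
      show (H.bar za * H.bar zb * H.bar zc * H.bar zf) ^ 5 = 1
      rw [ba, bb, hc, bf, hP.abcf5])
    set u := (a * b * c * f) ^ 5 with hudef
    have hyu : (y' : G) * u * (y' : G)⁻¹ = u := by
      have hcm : Commute (y' : G) u := ((((show Commute (y' : G) a from ya).mul_right yb).mul_right yc).mul_right yf).pow_right 5
      rw [hcm.eq, mul_inv_cancel_right]
    rcases H.mem_E.1 hu with h | h | h | h
    · exact h
    · rw [h, ey1] at hyu; exact absurd hyu H.e_ne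
    · rw [h] at hyu
      change (y' : G) * e0 * (y' : G)⁻¹ = e0 at hyu
      rw [ey2] at hyu; exact absurd (mul_eq_right.1 hyu) H.ne_one
    · rw [h] at hyu
      change (y' : G) * (t * e0) * (y' : G)⁻¹ = t * e0 at hyu
      rw [show (y' : G) * (t * e0) * (y' : G)⁻¹ = ((y' : G) * t * (y' : G)⁻¹) * ((y' : G) * e0 * (y' : G)⁻¹) by group,
        ey1, ey2] at hyu
      exact absurd (mul_eq_right.1 hyu) H.e_ne_one
  obtain ⟨da, db, df, dg⟩ := hDx d.2
  rw [← map_mul, MulEquiv.map_eq_one_iff] at hd1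
  rw [← map_mul, ← map_pow, MulEquiv.map_eq_one_iff] at hd3
  exact ⟨a, b, c, d, f, g, r,
    { za := za, zb := zb, zc := zc, zf := zf, zg := zg, ab5 := ab5, bc3 := hbc, bf3 := bf3, bg3 := bg3, fg4 := fg4
      ac := ac, af := af, ag := ag, cf := cf, cg := cg, a_eq := a_eq, abcf5 := abcf5, bfg5 := bfg5, bac := bac
      cent := hcent, t₁ := ht₁, seven := hv7
      dd := congrArg Subtype.val hd1
      ad := da.symm, bd := db.symm, df := df, dg := dg
      dt := congrArg Subtype.val hd3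
      d_ne := fun h => hd2 (congrArg iso (Subtype.ext h : d = P))
      r_five := S.order, ra := (S.comm ua).symm, rf := (S.comm uf).symm, rg := (S.comm ug).symm
      hall := S.hall, card_D := h60 }⟩

end Cfsg.Agent.SuzukiRecog
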