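import Cfsg.Agent.InvChar.Coset.SuzOrder
import Cfsg.Agent.Lib.SuzukiRecog.WOneData

/-!
Consequences of the relations between the generators `a, b, c, d, e` of the Suzuki sporadic group.
-/

set_option autoImplicit false
set_option linter.all false
set_option maxRecDepth 20000

noncomputable section

namespace Cfsg.Agent.SuzukiRecog

open Cfsg.Agent.CosetCert Cfsg.Agent.InvChar.Coset

variable {G : Type*} [Group G]

/-- The relations on `a, b, c, d`. -/
structure PRel (a b c d : G) : Prop where
  aa : a * a = 1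
  bb : b * b = 1
  cc : c * c = 1
  dd : d * d = 1
  ab : (a * b) ^ 5 = 1
  bc : (b * c) ^ 3 = 1
  ac : a * c = c * a
  ad : a * d = d * a
  bd : b * d = d * b
  cd : (c * d) ^ 4 = a

/-- The relations on `a, b, c, d, e` except the last one. -/
structure ERel (a b c d e : G) : Prop extends PRel a b c d where
  ee : e * e = 1
  ae : a * e = e * a
  be : b * e = e * b
  ce : c * e = e * c
  de : (d * e) ^ 3 = 1

/-- The generators by number. -/
def gens (a b c d e : G) : ℕ → G
  | 0 => a
  | 1 => b
  | 2 => c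
  | 3 => d
  | 4 => e
  | _ => 1

theorem gens_sq {a b c d e : G} (ha : a * a = 1) (hb : b * b = 1) (hc : c * c = 1) (hd : d * d = 1)
    (he : e * e = 1) : ∀ x, gens a b c d e x * gens a b c d e x = 1
  | 0 => ha
  | 1 => hb
  | 2 => hc
  | 3 => hd
  | 4 => he
  | _ + 5 => one_mul 1

theorem pow_rev {x y : G} {n : ℕ} (h : (x * y) ^ n = 1) : (y * x) ^ n = 1 := by
  rw [show y * x = x⁻¹ * (x * y) * (x⁻¹)⁻¹ by group, conj_pow, h]; group

theorem sq_pow {x y : G} (hx : x * x = 1) (hy : y * y = 1) (h : x * y = y * x) : (x * y) ^ 2 = 1 := by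
  rw [pow_two]; nth_rw 1 [h]; rw [mul_assoc, ← mul_assoc x x, hx, one_mul, hy]

namespace PRel

variable {a b c d : G} (r : PRel a b c d)
include r

theorem cd8 : (c * d) ^ 8 = 1 := by rw [show 8 = 4 * 2 by norm_num, pow_mul, r.cd, pow_two, r.aa]

theorem adc : (c * d) ^ 4 * a = 1 := by rw [r.cd, r.aa]

theorem dc4 : (d * c) ^ 4 = a := by
  have hi : (c * d)⁻¹ = d * c := by
    rw [mul_inv_rev, inv_eq_of_mul_eq_one_right r.cc, inv_eq_of_mul_eq_one_right r.dd]
  rw [← hi, inv_pow, r.cd]
  exact inv_eq_of_mul_eq_one_right r.aa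

theorem bWords (e : G) : ∀ w ∈ SuzB.table.C.W, wprod (gens a b c d e) w = 1 := by
  intro w hw
  simp only [SuzB.table, SuzB.cert, SuzB.words, List.mem_cons, List.not_mem_nil, or_false] at hw
  rcases hw with rfl | rfl | rfl | rfl | rfl | rfl | rfl | rfl | rfl | rfl | rfl | rfl | rfl | rfl | rfl | rfl | rfl
  · simpa [wprod, gens] using r.aa
  · simpa [wprod, gens, pow_succ, mul_assoc] using r.ab
  · simpa [wprod, gens, pow_succ, mul_assoc] using sq_pow r.aa r.cc r.ac
  · simpa [wprod, gens, pow_succ, mul_assoc] using sq_pow r.aa r.dd r.ad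
  · simpa [wprod, gens, pow_succ, mul_assoc] using pow_rev r.ab
  · simpa [wprod, gens] using r.bb
  · simpa [wprod, gens, pow_succ, mul_assoc] using r.bc
  · simpa [wprod, gens, pow_succ, mul_assoc] using sq_pow r.bb r.dd r.bd
  · simpa [wprod, gens, pow_succ, mul_assoc] using sq_pow r.cc r.aa r.ac.symm
  · simpa [wprod, gens, pow_succ, mul_assoc] using pow_rev r.bc
  · simpa [wprod, gens] using r.cc
  · simpa [wprod, gens, pow_succ, mul_assoc] using r.cd8
  · simpa [wprod, gens, pow_succ, mul_assoc] using sq_pow r.dd r.aa r.ad.symm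
  · simpa [wprod, gens, pow_succ, mul_assoc] using sq_pow r.dd r.bb r.bd.symm
  · simpa [wprod, gens, pow_succ, mul_assoc] using pow_rev r.cd8
  · simpa [wprod, gens] using r.dd
  · show wprod (gens a b c d e) [2, 3, 2, 3, 2, 3, 2, 3, 0] = 1
    simp only [wprod, gens, one_mul]
    calc _ = a * (d * c) ^ 4 := by simp [pow_succ, mul_assoc]
      _ = 1 := by rw [r.dc4, r.aa]

end PRel

/-- `(b c d c d)^5` as a word. -/
def wR : List ℕ := (List.replicate 5 [3, 2, 3, 2, 1]).flatten

/-- Its inverse as a word. -/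
def wW : List ℕ := (List.replicate 5 [1, 2, 3, 2, 3]).flatten

/-- The commutator of `x` with `(b c d c d)^5` as a word. -/
def commW (x : ℕ) : List ℕ := [x] ++ wW ++ [x] ++ wR

theorem bwords_in : ∀ w ∈ SuzB.table.C.W, w ∈ SuzJ.table.C.W := by
  intro w hw
  have h : SuzB.table.C.W.all (fun v => memList v SuzJ.table.C.W) = true := by decide +kernel
  exact memList_spec (List.all_eq_true.1 h w hw)

theorem fix_checks : powFixes SuzJ.table (commW 0) SuzJ.table.n = true ∧
    powFixes SuzJ.table (commW 1) SuzJ.table.n = true ∧ powFixes SuzJ.table (commW 2) SuzJ.table.n = true ∧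
    powFixes SuzJ.table (wR ++ (wR ++ wR)) SuzJ.table.n = true := by decide +kernel

theorem word_lt : ∀ w ∈ [commW 0, commW 1, commW 2, wR ++ (wR ++ wR)], ∀ y ∈ w, y < 4 := by decide +kernel

/-- The subgroup of the permutations of 280 rows generated by the first four letters has order at least 2160. -/
theorem card_P_ge : 2160 ≤ Nat.card (subg SuzJ.gJ [0, 1, 2, 3]) := by
  obtain ⟨-, hJ⟩ := SuzJ.simple_and_card
  have h2 : Bdd (subg SuzJ.gJ ([0, 1, 2, 3].map (nthNat [0, 1, 2, 3, 4])))
      (Nat.card (subg SuzJ.gJ [0, 1, 2, 3])) := ⟨inferInstance, le_rfl⟩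
  have h3 := bdd_subg SuzJ.checked.closed SuzJ.gJ SuzJ.gJ_sq SuzJ.table.C.W SuzJ.gJ_rel [0, 1, 2, 3, 4] [0, 1, 2, 3]
    (by decide +kernel) (by decide +kernel) (by decide +kernel) (by decide +kernel) (by decide +kernel) h2
  have hl : ∀ x < SuzJ.table.C.K, x ∈ [0, 1, 2, 3, 4] := by decide +kernel
  have h := (Bdd.top_of_gen SuzJ.gJ_top hl h3).2
  rw [Subgroup.card_top, hJ] at h
  have hn : SuzJ.table.n = 280 := rfl
  have h' : 604800 ≤ 280 * Nat.card (subg SuzJ.gJ [0, 1, 2, 3]) := h.trans (le_of_eq (congrArg (· * _) hn))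
  omega

/-- What holds in a group generated by `a, b, c, d`. -/
theorem PRel.word_facts {a b c d : G} (r : PRel a b c d) :
    (∀ x ∈ [a, b, c], (b * c * d * c * d) ^ 5 * x = x * (b * c * d * c * d) ^ 5) ∧
      ((b * c * d * c * d) ^ 5) ^ 3 = 1 := by
  classical
  let T : ℕ → Equiv.Perm (Fin SuzJ.table.n) := tau SuzJ.checked
  let gP : ℕ → G × Equiv.Perm (Fin SuzJ.table.n) := fun x => (gens a b c d 1 x, T x)
  have hgP : ∀ x, gP x * gP x = 1 := fun x =>
    Prod.ext (gens_sq r.aa r.bb r.cc r.dd (one_mul 1) x) (tau_sq SuzJ.checked x)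
  have hrel : ∀ w ∈ SuzB.table.C.W, wprod gP w = 1 := fun w hw => by
    refine Prod.ext ?_ ?_
    · show MonoidHom.fst _ _ (wprod gP w) = 1
      rw [map_wprod]; exact r.bWords 1 w hw
    · show MonoidHom.snd _ _ (wprod gP w) = 1
      rw [map_wprod]; exact tau_rel SuzJ.checked w (bwords_in w hw)
  set Γ := subg gP [0, 1, 2, 3] with hΓ
  have hbdd : Bdd Γ (216 * (10 * 1)) := by
    have h1 := bdd_subg SuzC.closed gP hgP SuzB.table.C.W hrel [0, 1] [] (by decide +kernel)
      (by decide +kernel) (by decide +kernel) (by decide +kernel) (by decide +kernel) (bdd_subg_nil gP)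
    exact bdd_subg SuzB.closed gP hgP SuzB.table.C.W hrel [0, 1, 2, 3] [0, 1] (by decide +kernel)
      (by decide +kernel) (by decide +kernel) (by decide +kernel) (by decide +kernel) h1
  haveI := hbdd.1
  let π : Γ →* Equiv.Perm (Fin SuzJ.table.n) := (MonoidHom.snd G _).comp Γ.subtype
  have hrange : π.range = (subg SuzJ.gJ [0, 1, 2, 3]).map SuzJ.J.subtype := by
    show ((MonoidHom.snd G _).comp Γ.subtype).range = _
    rw [MonoidHom.range_comp, Subgroup.range_subtype, hΓ, subg, subg, MonoidHom.map_closure, MonoidHom.map_closure,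
      ← Set.image_comp, ← Set.image_comp]
    congr 1
    exact Set.image_congr fun x _ => (SuzJ.gJ_coe x).symm
  have hinj : Function.Injective π := by
    have h1 : 2160 ≤ Nat.card π.range := by
      rw [hrange, Subgroup.card_map_of_injective SuzJ.J.subtype_injective]; exact card_P_ge
    have h2 : Nat.card π.range ≤ Nat.card Γ := Nat.card_le_card_of_surjective _ π.rangeRestrict_surjective
    have hc : Nat.card Γ = Nat.card π.range := by have := hbdd.2; omega
    have hbij : Function.Bijective π.rangeRestrict :=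
      (Nat.bijective_iff_surjective_and_card _).2 ⟨π.rangeRestrict_surjective, hc⟩
    exact fun x y h => hbij.1 (Subtype.ext h)
  have key : ∀ w ∈ [commW 0, commW 1, commW 2, wR ++ (wR ++ wR)],
      powFixes SuzJ.table w SuzJ.table.n = true → wprod (gens a b c d 1) w = 1 := by
    intro w hw hfix
    have hmem : wprod gP w ∈ Γ := by
      have : ∀ v : List ℕ, (∀ y ∈ v, y < 4) → wprod gP v ∈ Γ := by
        intro v
        induction v with
        | nil => exact fun _ => one_mem _
        | cons y v ih =>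
          intro hv
          refine mul_mem (ih fun z hz => hv z (List.mem_cons_of_mem _ hz)) (Subgroup.subset_closure ⟨y, ?_, rfl⟩)
          have := hv y List.mem_cons_self
          show y ∈ [0, 1, 2, 3]
          interval_cases y <;> simp
      exact this w (word_lt w hw)
    have h1 : π ⟨_, hmem⟩ = 1 := by
      show MonoidHom.snd _ _ (wprod gP w) = 1
      rw [map_wprod]
      refine Equiv.ext fun c => Fin.ext ?_
      show (wprod (tau SuzJ.checked) w c : ℕ) = c
      rw [wprod_tau SuzJ.checked w fun y hy => lt_trans (word_lt w hw y hy) (by decide)]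
      exact powFixes_spec _ hfix c c.2
    have h2 := hinj (h1.trans (map_one π).symm)
    have h3 := congrArg (fun z : Γ => (z : G × Equiv.Perm (Fin SuzJ.table.n)).1) h2
    have h4 : MonoidHom.fst G (Equiv.Perm (Fin SuzJ.table.n)) (wprod gP w) = 1 := h3
    rwa [map_wprod] at h4
  obtain ⟨f0, f1, f2, f3⟩ := fix_checks
  have hW : wprod (gens a b c d 1) wR = (b * c * d * c * d) ^ 5 := by
    rw [wR, wprod_pow]; simp [wprod, gens, mul_assoc]
  have hW' : wprod (gens a b c d 1) wW = (d * c * d * c * b) ^ 5 := by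
    rw [wW, wprod_pow]; simp [wprod, gens, mul_assoc]
  have hinv : (d * c * d * c * b) ^ 5 = ((b * c * d * c * d) ^ 5)⁻¹ := by
    rw [← inv_pow]; refine congrArg (fun u : G => u ^ 5) ?_
    simp only [mul_inv_rev, inv_eq_of_mul_eq_one_right r.bb, inv_eq_of_mul_eq_one_right r.cc,
      inv_eq_of_mul_eq_one_right r.dd, mul_assoc]
  set w := (b * c * d * c * d) ^ 5 with hwdef
  have hcomm : ∀ i, commW i ∈ [commW 0, commW 1, commW 2, wR ++ (wR ++ wR)] →
      powFixes SuzJ.table (commW i) SuzJ.table.n = true → gens a b c d 1 i * gens a b c d 1 i = 1 →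
      w * gens a b c d 1 i = gens a b c d 1 i * w := by
    intro i hi hfix hx
    have h := key _ hi hfix
    have e : wprod (gens a b c d 1) [i] = gens a b c d 1 i := one_mul _
    rw [commW, wprod_append', wprod_append', wprod_append', hW, hW', hinv, e] at h
    generalize gens a b c d 1 i = x at h hx ⊢
    calc w * x = w * (x * (w⁻¹ * x)) * (x⁻¹ * w) := by group
      _ = x⁻¹ * w := by rw [show w * (x * (w⁻¹ * x)) = 1 from h, one_mul]
      _ = x * w := by rw [inv_eq_of_mul_eq_one_right hx]
  refine ⟨?_, ?_⟩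
  · intro x hx
    simp only [List.mem_cons, List.not_mem_nil, or_false] at hx
    rcases hx with rfl | rfl | rfl
    exacts [hcomm 0 (by simp) f0 r.aa, hcomm 1 (by simp) f1 r.bb, hcomm 2 (by simp) f2 r.cc]
  · have h := key _ (by simp) f3
    rw [wprod_append', wprod_append', hW] at h
    rw [pow_succ, pow_two]; exact h

/-- The checks of the certificate. -/
theorem wone_checks : rangeOK WOne.cert 0 WOne.cert.N = true ∧ fM (WOne.cert.F.get 0) = 1 ∧
    (match walk 5 WOne.cert.F WOne.cert.N WOne.goalLen WOne.goalBody 0 with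
      | some (c, w, _) => Nat.beq c 0 && beqList w [3, 2, 3]
      | none => false) = true := by decide +kernel

/-- If `(b c d c d)^5 = 1` then `d c d` lies in `<a, b, c, e>`. -/
theorem ERel.conj_mem {a b c d e : G} (r : ERel a b c d e) (hw : (b * c * d * c * d) ^ 5 = 1) :
    d * c * d ∈ Subgroup.closure ({a, b, c, e} : Set G) := by
  set H := Subgroup.closure ({a, b, c, e} : Set G) with hH
  have hsq := gens_sq r.aa r.bb r.cc r.dd r.ee
  have hrev : (d * c * d * c * b) ^ 5 = 1 := by
    have hi : (b * c * d * c * d)⁻¹ = d * c * d * c * b := by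
      simp only [mul_inv_rev, inv_eq_of_mul_eq_one_right r.bb, inv_eq_of_mul_eq_one_right r.cc,
        inv_eq_of_mul_eq_one_right r.dd, mul_assoc]
    rw [← hi, inv_pow, hw, inv_one]
  have hS : Sat (gens a b c d e) WOne.cert (QuotientGroup.mk 1 : G ⧸ H) := by
    refine ⟨hsq, fun v hv q => ?_, fun v hv => ?_⟩
    · suffices h : wprod (gens a b c d e) v = 1 by rw [act_eq_wprod, h, one_smul]
      simp only [WOne.cert, WOne.words, List.mem_cons, List.not_mem_nil, or_false] at hv
      rcases hv with rfl | rfl | rfl | rfl | rfl | rfl | rfl | rfl | rfl | rfl | rfl | rfl | rfl | rfl | rfl | rfl |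
        rfl
      · simpa [wprod, gens] using r.aa
      · simpa [wprod, gens, pow_succ, mul_assoc] using pow_rev r.ab
      · simpa [wprod, gens, pow_succ, mul_assoc] using sq_pow r.cc r.aa r.ac.symm
      · simpa [wprod, gens, pow_succ, mul_assoc] using sq_pow r.dd r.aa r.ad.symm
      · simpa [wprod, gens, pow_succ, mul_assoc] using sq_pow r.ee r.aa r.ae.symm
      · simpa [wprod, gens] using r.bb
      · simpa [wprod, gens, pow_succ, mul_assoc] using pow_rev r.bc
      · simpa [wprod, gens, pow_succ, mul_assoc] using sq_pow r.dd r.bb r.bd.symm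
      · simpa [wprod, gens, pow_succ, mul_assoc] using sq_pow r.ee r.bb r.be.symm
      · simpa [wprod, gens] using r.cc
      · simpa [wprod, gens, pow_succ, mul_assoc] using pow_rev r.cd8
      · simpa [wprod, gens, pow_succ, mul_assoc] using sq_pow r.ee r.cc r.ce.symm
      · simpa [wprod, gens] using r.dd
      · simpa [wprod, gens, pow_succ, mul_assoc] using pow_rev r.de
      · simpa [wprod, gens] using r.ee
      · show wprod (gens a b c d e) [0, 3, 2, 3, 2, 3, 2, 3, 2] = 1
        simp only [wprod, gens, one_mul]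
        calc _ = (c * d) ^ 4 * a := by simp [pow_succ, mul_assoc]
          _ = 1 := r.adc
      · simpa [wprod, gens, pow_succ, mul_assoc] using hrev
    · rw [act_eq_wprod, MulAction.Quotient.smul_mk, smul_eq_mul, mul_one, QuotientGroup.eq, mul_one, inv_mem_iff]
      simp only [WOne.cert, WOne.subs, List.mem_cons, List.not_mem_nil, or_false] at hv
      rcases hv with rfl | rfl | rfl | rfl <;>
        exact Subgroup.subset_closure (by simp [wprod, gens])
  obtain ⟨h1, h2, h3⟩ := wone_checks
  obtain ⟨q, hq0, hq⟩ := exists_naming _ WOne.cert _ hS h2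
    (fun i hi => rangeOK_spec _ _ _ h1 i (Nat.zero_le _) (by omega))
  split at h3
  · next cc w b' hwk =>
    simp only [Bool.and_eq_true] at h3
    obtain rfl := Nat.eq_of_beq_eq_true h3.1
    obtain rfl := beqList_iff h3.2
    have h := walk_sound _ WOne.cert q hsq hq _ _ _ hwk
    rw [act_eq_wprod, hq0, MulAction.Quotient.smul_mk, smul_eq_mul, mul_one, QuotientGroup.eq, mul_one,
      inv_mem_iff] at h
    simpa [wprod, gens, mul_assoc] using h
  · simp at h3

end Cfsg.Agent.SuzukiRecog
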