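import Cfsg.Agent.Lib.SuzukiRecog.Lifts
import Cfsg.Agent.Lib.SuzukiRecog.Words

/-!
The two relations between `c` and `d`.
-/

set_option autoImplicit false
set_option linter.all false
set_option maxRecDepth 8000
set_option synthInstance.maxSize 4096

namespace Cfsg.Agent.SuzukiRecog

open Subgroup SuzukiLocal SuzukiType SuzukiThree LargeExtra OctadInv.Orbits

/-- Orthogonally to a hyperbolic line there are no two orthogonal singular points. -/
theorem space_check : ∀ c : V, qf c = 0 → c ≠ 0 → ∀ c' : V, qf c' = 0 → c' ≠ 0 → c' ≠ c → bf c c' = 0 →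
    ∀ f : V, qf f = 0 → bf c f = 0 → bf c' f = 0 → ∀ g : V, qf g = 0 → bf c g = 0 → bf c' g = 0 → bf f g = 0 := by
  decide +kernel

universe v

variable {G : Type v} [Group G] [Finite G] {Q Q' : Subgroup G} {z a' y : G} {D : Su Q Q' z a' y} {t : G}

namespace Gens

variable {H : Sec D t} {a b c d f g r : G} (R : Gens H a b c d f g r)
include R

theorem aa : a * a = 1 := R.za.sq

theorem ab_ne : a * b ≠ b * a := fun h => by
  have hab' : a = b := sq_of_invol R.za.sq R.zb.sq h (n := 2) R.ab5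
  have h1 := R.bf3
  have h2 := R.bg3
  rw [← hab'] at h1 h2
  have h3 : a = f := sq_of_invol R.za.sq R.zf.sq R.af (n := 1) h1
  have h4 : a = g := sq_of_invol R.za.sq R.zg.sq R.ag (n := 1) h2
  exact H.zt_ne_one R.za (by rw [R.a_eq, ← h3, ← h4, R.za.sq, one_pow])

theorem ba5 : (b * a) ^ 5 = 1 := by
  rw [show b * a = a⁻¹ * (a * b) * a⁻¹⁻¹ by group, conj_pow, R.ab5]; group

theorem a_ne_c : a ≠ c := fun e => by
  have h3 : (b * a) ^ 3 = 1 := by rw [e]; exact R.bc3
  have h : b * a = 1 := by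
    calc b * a = ((b * a) ^ 3) ^ 2 * ((b * a) ^ 5)⁻¹ := by group
      _ = 1 := by rw [h3, R.ba5]; simp
  exact R.ab_ne (by rw [eq_inv_of_mul_eq_one_left h, mul_inv_cancel, inv_mul_cancel])

theorem fg_ne : f * g ≠ g * f := fun h => H.zt_ne_one R.za (by
  rw [R.a_eq, pow_two, (show Commute g f from h.symm).mul_mul_mul_comm, R.zf.sq, R.zg.sq, one_mul])

theorem d_ne_one : d ≠ 1 := fun e => H.ne_one (by
  have := R.dt
  rwa [e, one_mul, pow_succ, pow_two, H.orb.sq, one_mul] at this)

/-- `d` does not fix `c`. -/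
theorem dcd_ne : d * c * d ≠ c := fun e => by
  have hdc : d * c = c * d := by
    calc d * c = d * c * (d * d) := by rw [R.dd, mul_one]
      _ = d * c * d * d := by group
      _ = c * d := by rw [e]
  have hv : ∀ {x : G}, x * b = b * x → x * c = c * x → x * f = f * x → x * g = g * x →
      x * ((b * c * f * g) ^ 2) = (b * c * f * g) ^ 2 * x := fun {x} h1 h2 h3 h4 =>
    (((((show Commute x b from h1).mul_right (show Commute x c from h2)).mul_right
      (show Commute x f from h3)).mul_right (show Commute x g from h4)).pow_right 2).eq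
  have hdv := hv R.bd.symm hdc R.df R.dg
  have h := (seven_facts H.facts R.seven).1 d d t hdv hdv
    (hv R.zb.comm.symm R.zc.comm.symm R.zf.comm.symm R.zg.comm.symm) R.dd R.d_ne_one H.orb.sq rfl
  exact R.d_ne (sq_of_invol R.dd H.orb.sq h (n := 1) R.dt)

theorem dcd_ne' : d * c * d ≠ c * a := fun e => by
  have hct : t * c = c * t := R.zc.comm.symm
  have hat : t * a = a * t := R.za.comm.symm
  have hdd := R.dd
  have h3 : d * t * d = t * d * t := by
    have h := R.dt
    rw [pow_succ, pow_two] at h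
    have hi := eq_inv_of_mul_eq_one_left (show d * t * d * (t * d * t) = 1 by rw [← h]; group)
    rw [hi, mul_inv_rev, mul_inv_rev, inv_eq_of_mul_eq_one_right H.orb.sq, inv_eq_of_mul_eq_one_right hdd, mul_assoc]
  have hca : (c * a) * t = t * (c * a) := by rw [mul_assoc, ← hat, ← mul_assoc, ← hct, mul_assoc]
  have h1 : t * d * t * c * (t * d * t) = c * a := by
    calc t * d * t * c * (t * d * t) = t * d * (t * c) * t * d * t := by group
      _ = t * d * (c * t) * t * d * t := by rw [hct]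
      _ = t * (d * c * (t * t) * d) * t := by group
      _ = t * (c * a) * t := by rw [H.orb.sq, mul_one, e]
      _ = c * a * (t * t) := by rw [← hca, mul_assoc]
      _ = c * a := by rw [H.orb.sq, mul_one]
  have hdad : d * a * d = a := by rw [← R.ad, mul_assoc, hdd, mul_one]
  have h2 : d * t * d * c * (d * t * d) = c := by
    calc d * t * d * c * (d * t * d) = d * t * (d * c * d) * t * d := by group
      _ = d * (t * (c * a)) * t * d := by rw [e]; group
      _ = d * (c * a * t) * t * d := by rw [hca]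
      _ = d * (c * a * (t * t)) * d := by group
      _ = d * (c * a) * d := by rw [H.orb.sq, mul_one]
      _ = d * c * (d * d) * a * d := by rw [hdd]; group
      _ = (d * c * d) * (d * a * d) := by group
      _ = c := by rw [e, hdad, mul_assoc, R.za.sq, mul_one]
  rw [h3, h1] at h2
  exact H.zt_ne_one R.za (mul_eq_left.1 h2)

/-- The fourth power of `c d`. -/
theorem cd4 : (c * d) ^ 4 = a := by
  haveI : Fact (Nat.Prime 5) := ⟨Nat.prime_five⟩
  obtain ⟨b5, hb5z, hb5σ, hb5⟩ := D.S.exists_five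
  obtain ⟨h, hza, hzr⟩ := move (w := z) (x := a) (b := r) (b₀ := b5) (p := 5)
    (by rw [H.facts.card_cz]; norm_num) hb5z hb5 R.za.conj R.ra R.r_five
  let φ : MulAut G := MulAut.conj h
  have hφa : φ a = z := hza
  have hmz : ∀ {x : G}, x * a = a * x → φ x * z = z * φ x := fun {x} hx => by
    rw [← hφa, ← map_mul, ← map_mul, hx]
  have inQ : ∀ {x : G}, x * a = a * x → x * r = r * x → x * x = 1 → φ x ∈ Q := by
    intro x hxa hxr hxx
    have hxz := hmz hxa
    have hxb : φ x * b5 = b5 * φ x := by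
      obtain ⟨k, hk⟩ : b5 ∈ zpowers (φ r) := by
        show b5 ∈ zpowers (h * r * h⁻¹)
        rw [hzr]; exact mem_zpowers b5
      rw [← show φ r ^ k = b5 from hk]
      exact ((show Commute (φ x) (φ r) by
        show φ x * φ r = φ r * φ x
        rw [← map_mul, ← map_mul, hxr]).zpow_right k).eq
    refine (D.S.act'_one_iff hxz).1 ?_
    have hA : D.S.act' (φ x) * σ = σ * D.S.act' (φ x) := by
      rw [← hb5σ, ← D.S.act'_mul hxz hb5z, hxb, D.S.act'_mul hb5z hxz]
    have hd : orderOf (D.S.act' (φ x)) ∣ 5 :=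
      orderOf_σ ▸ orderOf_dvd_of_mem_zpowers (cent_σ (D.S.act'_omega _) hA)
    have h2 : orderOf (D.S.act' (φ x)) ∣ 2 := orderOf_dvd_of_pow_eq_one (by
      rw [pow_two, ← D.S.act'_mul hxz hxz, ← map_mul, hxx, map_one, D.S.act'_q Q.one_mem])
    exact orderOf_eq_one_iff.1 (Nat.dvd_one.1 (by simpa using Nat.dvd_gcd hd h2))
  have hF : φ f ∈ Q := inQ R.af.symm R.rf.symm R.zf.sq
  have hG : φ g ∈ Q := inQ R.ag.symm R.rg.symm R.zg.sq
  -- `c` is the commutator
  have hC : φ c ∈ Q := by
    obtain ⟨t1, u, hu, hat, -, hc2⟩ := R.t₁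
    have hFG := Q.mul_mem hF hG
    have hm : φ (c * u) ∈ Q := by
      rw [← hc2, show f * g * t1 * (f * g)⁻¹ * t1⁻¹ = f * g * (t1 * (f * g)⁻¹ * t1⁻¹) by group, map_mul, map_mul,
        map_mul, map_mul, map_inv, map_inv, map_mul]
      exact Q.mul_mem hFG (D.S.h.conj_mem (hmz hat.symm) (Q.inv_mem hFG))
    have hcu : u * c = c * u := mem_centralizer_iff.1 (H.zt_cent R.zc) u hu
    have hcc : c * u * (c * u) = 1 := by
      rw [(show Commute u c from hcu).mul_mul_mul_comm, R.zc.sq, H.facts.E_sq u hu, one_mul]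
    have hne : c * u ≠ 1 := fun e => H.E_not_z (by rw [eq_inv_of_mul_eq_one_left e]; exact inv_mem hu) R.zc.conj
    have hconj : IsConj (c * u) z := (isConj_iff.2 ⟨h, rfl⟩ : IsConj (c * u) (φ (c * u))).trans
      (D.S.conj_of_mem hm (by rw [← map_mul, hcc, map_one]) fun e => hne (φ.injective (e.trans (map_one φ).symm)))
    have := H.zt_uniq R.zc hu hconj
    rwa [this, mul_one] at hm
  have hC' : φ (d * c * d) ∈ Q := by
    have hdd : d = d⁻¹ := (inv_eq_of_mul_eq_one_right R.dd).symm
    nth_rw 2 [hdd]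
    rw [map_mul, map_mul, map_inv]
    exact D.S.h.conj_mem (hmz R.ad.symm) hC
  set c' := d * c * d with hc'
  have hc'sq : c' * c' = 1 := by
    rw [hc', show d * c * d * (d * c * d) = d * c * (d * d) * c * d by group, R.dd, mul_one, mul_assoc d c c,
      R.zc.sq, mul_one, R.dd]
  have hsing : ∀ {x : G}, φ x ∈ Q → x * x = 1 → qf (D.S.F.vec (φ x)) = 0 := fun {x} hx hxx => by
    have h1 := D.S.F.sq hx
    rw [← map_mul, hxx, map_one] at h1
    exact (zp_eq_one_iff D.S.h.ne_one).1 h1.symm
  have hne : ∀ {x : G}, φ x ∈ Q → x ≠ 1 → x ≠ a → D.S.F.vec (φ x) ≠ 0 := fun {x} hx h1 h2 e => by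
    rcases D.S.F.vec_cases hx e with e' | e'
    · exact h1 (φ.injective (e'.trans (map_one φ).symm))
    · exact h2 (φ.injective (e'.trans hφa.symm))
  have hperp : ∀ {x y : G}, φ x ∈ Q → φ y ∈ Q → x * y = y * x → bf (D.S.F.vec (φ x)) (D.S.F.vec (φ y)) = 0 :=
    fun {x y} hx hy hxy => (D.S.comm_iff hx hy).1 (by rw [← map_mul, ← map_mul, hxy])
  have hc'f : c' * f = f * c' := (((show Commute d f from R.df).mul_left R.cf).mul_left R.df).eq
  have hc'g : c' * g = g * c' := (((show Commute d g from R.dg).mul_left R.cg).mul_left R.dg).eq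
  have hc'1 : c' ≠ 1 := fun e => H.zt_ne_one R.zc (by
    calc c = d * (d * c * d) * d := by
          rw [show d * (d * c * d) * d = d * d * c * (d * d) by group, R.dd, one_mul, mul_one]
      _ = 1 := by rw [← hc', e, mul_one, R.dd])
  have hc'a : c' ≠ a := fun e => R.a_ne_c (by
    calc a = d * a * d := by rw [← R.ad, mul_assoc, R.dd, mul_one]
      _ = d * (d * c * d) * d := by rw [← hc', e]
      _ = c := by rw [show d * (d * c * d) * d = d * d * c * (d * d) by group, R.dd, one_mul, mul_one])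
  have hbf : bf (D.S.F.vec (φ c)) (D.S.F.vec (φ c')) = 1 := by
    refine (z2 _).resolve_left fun h0 => ?_
    have hvne : D.S.F.vec (φ c') ≠ D.S.F.vec (φ c) := fun e => by
      have hm : φ (c * c') ∈ Q := by rw [map_mul]; exact Q.mul_mem hC hC'
      have h0 : D.S.F.vec (φ (c * c')) = 0 := by rw [map_mul, D.S.F.vec_mul hC hC', e, add_self_V]
      rcases D.S.F.vec_cases hm h0 with e' | e'
      · have e'' : c * c' = 1 := φ.injective (e'.trans (map_one φ).symm)
        exact R.dcd_ne (by
          rw [← hc', eq_inv_of_mul_eq_one_right e'', inv_eq_of_mul_eq_one_right R.zc.sq])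
      · have e'' : c * c' = a := φ.injective (e'.trans hφa.symm)
        exact R.dcd_ne' (by rw [← hc', ← e'', ← mul_assoc, R.zc.sq, one_mul])
    have hfa : f ≠ a := fun e => R.fg_ne (by rw [e]; exact R.ag)
    have hga : g ≠ a := fun e => R.fg_ne (by rw [e]; exact R.af.symm)
    have hfg : bf (D.S.F.vec (φ f)) (D.S.F.vec (φ g)) ≠ 0 := fun e => R.fg_ne (φ.injective (by
      rw [map_mul, map_mul]; exact (D.S.comm_iff hF hG).2 e))
    exact hfg (space_check _ (hsing hC R.zc.sq) (hne hC (H.zt_ne_one R.zc) (Ne.symm R.a_ne_c))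
      _ (hsing hC' hc'sq) (hne hC' hc'1 hc'a) hvne h0
      _ (hsing hF R.zf.sq) (hperp hC hF R.cf) (hperp hC' hF hc'f)
      _ (hsing hG R.zg.sq) (hperp hC hG R.cg) (hperp hC' hG hc'g))
  have h1 := D.S.F.comm hC hC'
  rw [hbf, zp_one, ← hφa, ← map_mul, ← map_mul, ← map_mul, φ.injective.eq_iff] at h1
  calc (c * d) ^ 4 = c * c' * (c * c') := by rw [hc']; simp [pow_succ, mul_assoc]
    _ = a * (c' * c) * (c * c') := by nth_rw 1 [h1]
    _ = a * (c' * (c * c) * c') := by group
    _ = a := by rw [R.zc.sq, mul_one, hc'sq, mul_one]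

theorem eRel : ERel a b c d t where
  aa := R.za.sq
  bb := R.zb.sq
  cc := R.zc.sq
  dd := R.dd
  ab := R.ab5
  bc := R.bc3
  ac := R.ac
  ad := R.ad
  bd := R.bd
  cd := R.cd4
  ee := H.orb.sq
  ae := R.za.comm
  be := R.zb.comm
  ce := R.zc.comm
  de := R.dt

theorem w_ne : (b * c * d * c * d) ^ 5 ≠ 1 := fun hw => by
  have hm := R.eRel.conj_mem hw
  have hle : Subgroup.closure ({a, b, c, t} : Set G) ≤ centralizer ({t} : Set G) := by
    rw [closure_le]
    rintro x (rfl | rfl | rfl | rfl) <;> refine mem_centralizer_singleton_iff.2 ?_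
    exacts [R.za.comm, R.zb.comm, R.zc.comm, rfl]
  have hc't := mem_centralizer_singleton_iff.1 (hle hm)
  have hct : t * c = c * t := R.zc.comm.symm
  have h3 : d * t * d = t * d * t := by
    have h := R.dt
    rw [pow_succ, pow_two] at h
    have hi := eq_inv_of_mul_eq_one_left (show d * t * d * (t * d * t) = 1 by rw [← h]; group)
    rw [hi, mul_inv_rev, mul_inv_rev, inv_eq_of_mul_eq_one_right H.orb.sq, inv_eq_of_mul_eq_one_right R.dd,
      mul_assoc]
  set c' := d * c * d with hc'
  have hA : d * t * d * c * (d * t * d) = c := by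
    calc d * t * d * c * (d * t * d) = d * (t * (d * c * d) * t) * d := by group
      _ = d * (c' * (t * t)) * d := by rw [← hc', ← hc't, mul_assoc c']
      _ = d * d * c * (d * d) := by rw [H.orb.sq, mul_one, hc']; group
      _ = c := by rw [R.dd, one_mul, mul_one]
  have hB : t * d * t * c * (t * d * t) = c' := by
    calc t * d * t * c * (t * d * t) = t * d * (t * c) * t * d * t := by group
      _ = t * d * (c * t) * t * d * t := by rw [hct]
      _ = t * (d * c * (t * t) * d) * t := by group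
      _ = t * c' * t := by rw [H.orb.sq, mul_one]
      _ = c' * (t * t) := by rw [← hc't, mul_assoc]
      _ = c' := by rw [H.orb.sq, mul_one]
  rw [h3, hB] at hA
  exact R.dcd_ne hA

/-- An element of `C(t)` commuting with `a b` centralizes `E`. -/
theorem cent_ab {x : G} (hxt : x * t = t * x) (hxu : x * (a * b) = a * b * x) :
    x ∈ centralizer (H.E : Set G) := by
  haveI : Fact (Nat.Prime 5) := ⟨Nat.prime_five⟩
  obtain ⟨Fl, i1, i2, h4, ⟨e⟩⟩ := H.exists_model
  set K := centralizer (H.E : Set G) with hK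
  set u := a * b with hu
  have hu5 : u ^ 5 = 1 := R.ab5
  have hu1 : u ≠ 1 := fun e => R.ab_ne (by
    rw [eq_inv_of_mul_eq_one_left e, inv_mul_cancel, mul_inv_cancel])
  have huo : orderOf u = 5 := orderOf_eq_prime hu5 hu1
  have huK : u ∈ K := mul_mem (H.zt_cent R.za) (H.zt_cent R.zb)
  have hau : ∀ i : ℤ, a * u ^ i = u ^ (-i) * a := fun i => by
    have h1 : a * u * a⁻¹ = u⁻¹ := by
      rw [hu, mul_inv_rev, inv_eq_of_mul_eq_one_right R.za.sq, inv_eq_of_mul_eq_one_right R.zb.sq,
        show a * (a * b) * a = a * a * b * a by group, R.za.sq, one_mul]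
    have h2 := (conj_zpow (a := a) (b := u) (i := i))
    rw [h1, inv_zpow] at h2
    rw [zpow_neg, h2, inv_mul_cancel_right]
  set a1 := x * a * x⁻¹ with ha1
  have za1 : ZT z t a1 := H.zt_conj R.za hxt
  have hk : a * a1 * u = u * (a * a1) := by
    have h1 := hau 1
    rw [zpow_one, zpow_neg_one] at h1
    have h2 : a1 * u = u⁻¹ * a1 := by
      calc a1 * u = x * a * x⁻¹ * u := rfl
        _ = x * (a * u) * x⁻¹ := by
          rw [mul_assoc (x * a), ((show Commute x u from hxu).inv_left).eq]; group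
        _ = x * (u⁻¹ * a) * x⁻¹ := by rw [h1]
        _ = u⁻¹ * a1 := by
          rw [ha1, ← mul_assoc, ((show Commute x u from hxu).inv_right).eq]; group
    have h1' : a * u⁻¹ = u * a := by
      have := hau (-1); rwa [zpow_neg_one, neg_neg, zpow_one] at this
    calc a * a1 * u = a * u⁻¹ * a1 := by rw [mul_assoc, h2, mul_assoc]
      _ = u * (a * a1) := by rw [h1', mul_assoc]
  set ubar := H.pr ⟨u, huK⟩ with hubar
  have hub : orderOf ubar = 5 := by
    refine orderOf_eq_prime (by rw [hubar, ← map_pow, show (⟨u, huK⟩ : K) ^ 5 = 1 from Subtype.ext hu5, map_one]) fun e => ?_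
    have hm : u ∈ H.E := (H.pr_one_iff _).1 e
    have h2 := orderOf_dvd_of_pow_eq_one (x := u) (n := 2) (by rw [pow_two, H.facts.E_sq u hm])
    rw [huo] at h2; norm_num at h2
  have hC : centralizer ({ubar} : Set H.Mq) = zpowers ubar :=
    (eq_of_le_of_card_ge (zpowers_le.2 (mem_centralizer_singleton_iff.2 rfl))
      (by rw [PlaneModel.card_centralizer h4 e (Or.inl hub), Nat.card_zpowers])).symm
  have hm : H.pr ⟨a * a1, mul_mem (H.zt_cent R.za) (H.zt_cent za1)⟩ ∈ zpowers ubar := by
    rw [← hC, mem_centralizer_singleton_iff, hubar, ← map_mul, ← map_mul]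
    exact congrArg _ (Subtype.ext hk)
  obtain ⟨i, hi⟩ := hm
  have hi' : ubar ^ i = H.pr ⟨a * a1, mul_mem (H.zt_cent R.za) (H.zt_cent za1)⟩ := hi
  set m := 3 * i with hm
  have humt : ∀ j : ℤ, u ^ j * t = t * u ^ j := fun j =>
    ((show Commute t u from (((show Commute t a from R.za.comm.symm).mul_right R.zb.comm.symm))).zpow_right j).eq.symm
  have ha1eq : a1 = u ^ (-m) * a * (u ^ (-m))⁻¹ := by
    refine H.bar_inj za1 (H.zt_conj R.za (humt _)) ?_
    have h6 : u ^ (-m) * a * (u ^ (-m))⁻¹ = a * u ^ i := by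
      rw [← hau, zpow_neg, inv_inv, mul_assoc, ← zpow_add,
        show m + m = i + ((orderOf u : ℕ) : ℤ) * i by rw [huo, hm]; push_cast; ring, zpow_add, zpow_mul, zpow_natCast,
        pow_orderOf_eq_one, one_zpow, mul_one]
    show H.pr _ = H.pr _
    rw [show (⟨u ^ (-m) * a * (u ^ (-m))⁻¹, H.zt_cent (H.zt_conj R.za (humt _))⟩ : K) =
        ⟨a, H.zt_cent R.za⟩ * ⟨u, huK⟩ ^ i from Subtype.ext (h6.trans rfl), map_mul, map_zpow, ← hubar, hi',
      ← map_mul]
    refine congrArg _ (Subtype.ext ?_)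
    show a1 = a * (a * a1)
    rw [← mul_assoc, R.za.sq, one_mul]
  set x' := u ^ m * x with hx'
  have hx't : x' * t = t * x' := SuzukiType.mul_z (z := t) (humt m) hxt
  have hx'u : x' * u = u * x' := (((Commute.refl u).zpow_left m).mul_left (show Commute x u from hxu)).eq
  have hx'a : x' * a = a * x' := by
    refine mul_inv_eq_iff_eq_mul.1 ?_
    calc x' * a * x'⁻¹ = u ^ m * a1 * (u ^ m)⁻¹ := by rw [hx', ha1]; group
      _ = a := by rw [ha1eq]; group
  have hx'b : x' * b = b * x' := by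
    have hb : b = a * u := by rw [hu, ← mul_assoc, R.za.sq, one_mul]
    rw [hb]
    exact ((show Commute x' a from hx'a).mul_right (show Commute x' u from hx'u)).eq
  -- the partner of `a`
  obtain ⟨h, hh⟩ := H.exists_tr_cent R.za
  set c0 := (h : G) * a' * (h : G)⁻¹ with hc0
  have zc0 : ZT z t c0 := H.zt_conj H.zt_a hh.comm
  have hpart : ∀ w ∈ K, w * a = a * w → w * c0 = c0 * w := fun w hw hwa => by
    set w0 := (h : G)⁻¹ * w * h with hw0
    have hw0K : w0 ∈ K := mul_mem (mul_mem (inv_mem h.2) hw) h.2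
    have hw0z : w0 * z = z * w0 := by
      rw [hw0]
      calc (h : G)⁻¹ * w * h * z = (h : G)⁻¹ * (w * ((h : G) * z * (h : G)⁻¹)) * h := by group
        _ = (h : G)⁻¹ * ((h : G) * z * (h : G)⁻¹ * w) * h := by rw [hh.1, hwa]
        _ = _ := by group
    obtain ⟨h1, h2⟩ := H.mem_cent_E.1 hw0K
    have h3 := H.comm_a hw0z h1 h2
    calc w * c0 = (h : G) * (w0 * a') * (h : G)⁻¹ := by rw [hw0, hc0]; group
      _ = (h : G) * (a' * w0) * (h : G)⁻¹ := by rw [h3]
      _ = _ := by rw [hw0, hc0]; group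
  have hc0ne : c0 ≠ a := fun e => by
    have h1 : a' = z := (MulAut.conj (h : G)).injective (e.trans hh.1.symm)
    have h2 := H.za_conj
    rw [h1, D.S.h.zz] at h2
    exact D.S.h.ne_one (isConj_one_right.1 h2)
  have zac : ZT z t (a * c) := H.zt_mul R.za R.zc R.ac R.a_ne_c
  have hc0cases : c0 = c ∨ c0 = a * c := by
    rcases R.cent c0 (H.zt_cent zc0) (hpart f (H.zt_cent R.zf) R.af.symm).symm
      (hpart g (H.zt_cent R.zg) R.ag.symm).symm with e | e | e | e
    · exact absurd zc0.conj (H.E_not_z e)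
    · exact absurd (inv_mul_eq_one.1 (H.zt_uniq zc0 e (by rw [mul_inv_cancel_left]; exact R.za.conj))) hc0ne
    · exact Or.inl (inv_mul_eq_one.1 (H.zt_uniq zc0 e (by rw [mul_inv_cancel_left]; exact R.zc.conj)))
    · exact Or.inr (inv_mul_eq_one.1 (H.zt_uniq zc0 e (by rw [mul_inv_cancel_left]; exact zac.conj)))
  have hcent' : ∀ w ∈ K, w * a = a * w → w * c = c * w := fun w hw hwa => by
    have h1 := hpart w hw hwa
    rcases hc0cases with e | e <;> rw [e] at h1
    · exact h1
    · have := (show Commute w a from hwa).mul_right (show Commute w (a * c) from h1)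
      rwa [← mul_assoc, R.za.sq, one_mul] at this
  set c1 := x' * c * x'⁻¹ with hc1
  have zc1 : ZT z t c1 := H.zt_conj R.zc hx't
  have hc1w : ∀ {w : G}, ZT z t w → a * w = w * a → c1 * w = w * c1 := fun {w} zw haw => by
    set w0 := x'⁻¹ * w * x' with hw0
    have zw0 : ZT z t w0 := by
      have := H.zt_conj zw (inv_z (z := t) hx't)
      rwa [inv_inv] at this
    have hw0a : w0 * a = a * w0 :=
      ((((show Commute x' a from hx'a).inv_left).mul_left (show Commute w a from haw.symm)).mul_left hx'a).eq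
    have h3 := hcent' w0 (H.zt_cent zw0) hw0a
    calc c1 * w = x' * (c * w0) * x'⁻¹ := by rw [hw0, hc1]; group
      _ = x' * (w0 * c) * x'⁻¹ := by rw [h3]
      _ = _ := by rw [hw0, hc1]; group
  have hx'c : x' * c = c * x' := by
    refine mul_inv_eq_iff_eq_mul.1 ?_
    show c1 = c
    rcases R.cent c1 (H.zt_cent zc1) (hc1w R.zf R.af) (hc1w R.zg R.ag) with e | e | e | e
    · exact absurd zc1.conj (H.E_not_z e)
    · exfalso
      have h1 : c1 = a := inv_mul_eq_one.1 (H.zt_uniq zc1 e (by rw [mul_inv_cancel_left]; exact R.za.conj))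
      exact R.a_ne_c ((MulAut.conj x').injective (h1.trans
        (by rw [MulAut.conj_apply, hx'a, mul_inv_cancel_right]))).symm
    · exact inv_mul_eq_one.1 (H.zt_uniq zc1 e (by rw [mul_inv_cancel_left]; exact R.zc.conj))
    · exfalso
      have h1 : c1 = a * c := inv_mul_eq_one.1 (H.zt_uniq zc1 e (by rw [mul_inv_cancel_left]; exact zac.conj))
      refine R.bac ?_
      rw [← h1, hc1, show b * (x' * c * x'⁻¹) = x' * (b * c) * x'⁻¹ by
          rw [← mul_assoc, ← mul_assoc, ← hx'b, mul_assoc x' b c],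
        conj_pow, R.bc3, mul_one, mul_inv_cancel]
      exact one_mem _
  have hx'c0 : x' * c0 = c0 * x' := by
    rcases hc0cases with e | e <;> rw [e]
    · exact hx'c
    · exact ((show Commute x' a from hx'a).mul_right (show Commute x' c from hx'c)).eq
  set g0 := (h : G)⁻¹ * x' * h with hg0
  have hg0t : g0 * t = t * g0 :=
    SuzukiType.mul_z (z := t) (SuzukiType.mul_z (z := t) (inv_z (z := t) hh.comm) hx't) hh.comm
  have hg0z : g0 * z = z * g0 := by
    rw [hg0]
    calc (h : G)⁻¹ * x' * h * z = (h : G)⁻¹ * (x' * ((h : G) * z * (h : G)⁻¹)) * h := by group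
      _ = (h : G)⁻¹ * ((h : G) * z * (h : G)⁻¹ * x') * h := by rw [hh.1, hx'a]
      _ = _ := by group
  have hg0a : g0 * a' = a' * g0 := by
    rw [hg0]
    calc (h : G)⁻¹ * x' * h * a' = (h : G)⁻¹ * (x' * c0) * h := by rw [hc0]; group
      _ = (h : G)⁻¹ * (c0 * x') * h := by rw [hx'c0]
      _ = _ := by rw [hc0]; group
  have hg0K : g0 ∈ K := H.mem_cent_E.2 ⟨hg0t, H.comm_e hg0z hg0a hg0t⟩
  have hx'K : x' ∈ K := by
    have := mul_mem (mul_mem h.2 hg0K) (inv_mem h.2)
    rwa [hg0, show (h : G) * ((h : G)⁻¹ * x' * h) * (h : G)⁻¹ = x' by group] at this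
  have := mul_mem (inv_mem (zpow_mem huK m)) hx'K
  rwa [hx', inv_mul_cancel_left] at this

/-- The word of order three centralizes `a, b, f, g`. -/
theorem w_fg : (b * c * d * c * d) ^ 5 * f = f * (b * c * d * c * d) ^ 5 ∧
    (b * c * d * c * d) ^ 5 * g = g * (b * c * d * c * d) ^ 5 := by
  classical
  haveI : Fact (Nat.Prime 5) := ⟨Nat.prime_five⟩
  have F := H.facts
  obtain ⟨hw, -⟩ := R.eRel.toPRel.word_facts
  set w := (b * c * d * c * d) ^ 5 with hwdef
  have hwa := hw a (by simp)
  have hwb := hw b (by simp)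
  set u := a * b with hu
  have hu1 : u ≠ 1 := fun e => R.ab_ne (by
    rw [eq_inv_of_mul_eq_one_left e, inv_mul_cancel, mul_inv_cancel])
  have huo : orderOf u = 5 := orderOf_eq_prime R.ab5 hu1
  have hut : u * t = t * u := SuzukiType.mul_z (z := t) R.za.comm R.zb.comm
  have huK : u ∈ centralizer (H.E : Set G) := mul_mem (H.zt_cent R.za) (H.zt_cent R.zb)
  have huE : ∀ v ∈ H.E, v * u = u * v := fun v hv => mem_centralizer_iff.1 huK v hv
  set CT := (centralizer ({t} : Set G) ⊓ centralizer ({u} : Set G) : Subgroup G) with hCT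
  have hle : CT ≤ centralizer (H.E : Set G) := fun x hx =>
    R.cent_ab (mem_centralizer_singleton_iff.1 hx.1) (mem_centralizer_singleton_iff.1 hx.2)
  have h20 : Nat.card CT = 4 * 5 := by
    have h1 := F.cent_E u (mem_centralizer_singleton_iff.2 hut) (Or.inl huo)
    rw [huo, show CT ⊓ centralizer (H.E : Set G) = CT from inf_eq_left.2 hle] at h1
    refine Nat.dvd_antisymm h1 (Nat.Coprime.mul_dvd_of_dvd_of_dvd (by norm_num) ?_ ?_)
    · exact F.card_E ▸ card_dvd_of_le (le_inf F.E_le fun v hv => mem_centralizer_singleton_iff.2 (huE v hv))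
    · have := card_dvd_of_le (zpowers_le.2 (show u ∈ CT from
        ⟨mem_centralizer_singleton_iff.2 hut, mem_centralizer_singleton_iff.2 rfl⟩))
      rwa [Nat.card_zpowers, huo] at this
  obtain ⟨b₅, i, s, hb₅, hb₅z, -, hall, -⟩ := F.exists_five
  have hodd : Odd (orderOf u) := by rw [huo]; decide
  rcases F.quot_shape (p := 5) (Or.inl rfl) huo hut huE
    (fun x hx => F.not_z_five hb₅ hb₅z hall huo hut hx) (Or.inl h20) with ⟨U, hU⟩ | ⟨q0, qi, qs, hO⟩
  swap
  · exfalso
    let t' : centralizer ({u} : Set G) := ⟨t, mem_centralizer_singleton_iff.2 hut.symm⟩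
    have h8 := hO.all _ (orderOf_proj hodd t' F.t_two)
    have h := card_cent_proj hodd t' F.t_two
    rw [h8, huo] at h
    change Nat.card CT = 5 * 8 at h
    rw [h20] at h
    norm_num at h
  obtain ⟨l, hl⟩ := exists_five_quot huo (F.twentyfive_dvd huo)
  have h300 : Nat.card (centralizer ({u} : Set G)) = 300 := by rw [card_quot, (hU.five hl).1, huo]
  set Dc := centralizer ({a, b, f, g} : Set G) with hDc
  have hDle : ∀ x ∈ Dc, x * a = a * x ∧ x * b = b * x := fun x hx =>
    ⟨(mem_centralizer_iff.1 hx a (by simp)).symm, (mem_centralizer_iff.1 hx b (by simp)).symm⟩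
  let φ : zpowers u × Dc → centralizer ({u} : Set G) := fun p => ⟨p.1 * p.2, mul_mem
    (zpowers_le_centralizer u p.1.2) (mem_centralizer_singleton_iff.2
      ((show Commute (p.2 : G) a from (hDle _ p.2.2).1).mul_right (hDle _ p.2.2).2).eq)⟩
  have hcomm : ∀ p ∈ zpowers u, p * a = a * p → p = 1 := by
    rintro _ ⟨j, rfl⟩ hj
    refine zpow_eq_one_of_sq hodd ?_
    have hj' : u ^ j * a = a * u ^ j := hj
    have h1 : a * u * a⁻¹ = u⁻¹ := by
      rw [hu, mul_inv_rev, inv_eq_of_mul_eq_one_right R.za.sq, inv_eq_of_mul_eq_one_right R.zb.sq,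
        show a * (a * b) * a = a * a * b * a by group, R.za.sq, one_mul]
    have h2 := (conj_zpow (a := a) (b := u) (i := j))
    rw [h1, inv_zpow, ← hj', mul_inv_cancel_right] at h2
    nth_rw 1 [← h2]
    exact inv_mul_cancel _
  have hφ : Function.Bijective φ := by
    haveI : Fintype (zpowers u × Dc) := Fintype.ofFinite _
    haveI : Fintype (centralizer ({u} : Set G)) := Fintype.ofFinite _
    refine (Fintype.bijective_iff_injective_and_card φ).2 ⟨fun p q e => ?_, ?_⟩
    · have e' : (p.1 : G) * p.2 = q.1 * q.2 := congrArg Subtype.val e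
      have h1 : (q.1 : G)⁻¹ * p.1 = (q.2 : G) * (p.2 : G)⁻¹ := by
        calc (q.1 : G)⁻¹ * p.1 = (q.1 : G)⁻¹ * ((p.1 : G) * p.2) * (p.2 : G)⁻¹ := by group
          _ = _ := by rw [e']; group
      have h2 := hcomm _ (mul_mem (inv_mem q.1.2) p.1.2) (by
        rw [h1]; exact (hDle _ (mul_mem q.2.2 (inv_mem p.2.2))).1)
      have h3 : (p.1 : G) = q.1 := (inv_mul_eq_one.1 h2).symm
      rw [h3] at e'
      exact Prod.ext (Subtype.ext h3) (Subtype.ext (mul_left_cancel e'))
    · rw [← Nat.card_eq_fintype_card, ← Nat.card_eq_fintype_card, Nat.card_prod, Nat.card_zpowers, huo, h300,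
        hDc, R.card_D]
  obtain ⟨⟨p, x⟩, hpx⟩ := hφ.2 ⟨w, mem_centralizer_singleton_iff.2
    ((show Commute w a from hwa).mul_right hwb).eq⟩
  have hpx' : (p : G) * x = w := congrArg Subtype.val hpx
  have hp1 : (p : G) = 1 := hcomm _ p.2 (by
    rw [show (p : G) = w * (x : G)⁻¹ by rw [← hpx', mul_inv_cancel_right]]
    exact ((show Commute w a from hwa).mul_left (show Commute (x : G) a from (hDle _ x.2).1).inv_left).eq)
  rw [hp1, one_mul] at hpx'
  rw [← hpx']
  exact ⟨(mem_centralizer_iff.1 x.2 f (by simp)).symm, (mem_centralizer_iff.1 x.2 g (by simp)).symm⟩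

/-- The last relation. -/
theorem wt3 : ((b * c * d * c * d) ^ 5 * t) ^ 3 = 1 := by
  obtain ⟨hw, hw3⟩ := R.eRel.toPRel.word_facts
  obtain ⟨hf, hg⟩ := R.w_fg
  have hv : ∀ {x : G}, x * b = b * x → x * c = c * x → x * f = f * x → x * g = g * x →
      x * ((b * c * f * g) ^ 2) = (b * c * f * g) ^ 2 * x := fun {x} h1 h2 h3 h4 =>
    (((((show Commute x b from h1).mul_right (show Commute x c from h2)).mul_right
      (show Commute x f from h3)).mul_right (show Commute x g from h4)).pow_right 2).eq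
  exact (seven_facts H.facts R.seven).2 _ t (hv (hw b (by simp)) (hw c (by simp)) hf hg)
    (hv R.zb.comm.symm R.zc.comm.symm R.zf.comm.symm R.zg.comm.symm) hw3 R.w_ne H.orb.sq H.ne_one

end Gens

end Cfsg.Agent.SuzukiRecog
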