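import Cfsg.Agent.Lib.SuzukiLocal.PlaneModel

/-!
`3 × 3` matrices over a field of order four, coded for computation, and the search for the generators of
`PSL₃(4)` attached to a subgroup `A₆`.
-/

set_option autoImplicit false
set_option linter.all false
set_option maxRecDepth 100000

namespace Cfsg.Agent.SuzukiRecog.PlaneCode

open Matrix

/-- Sum. -/
def fadd (a b : ℕ) : ℕ := Nat.xor (a % 4) (b % 4)

/-- Product, from a packed table. -/
def fmul (a b : ℕ) : ℕ := Nat.shiftRight 2625168384 (2 * (4 * (a % 4) + b % 4)) % 4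

/-- Inverse. -/
def finv (a : ℕ) : ℕ := Nat.shiftRight 180 (2 * (a % 4)) % 4

/-- A coded matrix. -/
structure C3 where
  e00 : ℕ
  e01 : ℕ
  e02 : ℕ
  e10 : ℕ
  e11 : ℕ
  e12 : ℕ
  e20 : ℕ
  e21 : ℕ
  e22 : ℕ

/-- Inner product of length three. -/
def dot3 (a b c a' b' c' : ℕ) : ℕ := fadd (fmul a a') (fadd (fmul b b') (fmul c c'))

/-- Product. -/
def mul : C3 → C3 → C3
  | ⟨a, b, c, d, e, f, g, h, i⟩, ⟨a', b', c', d', e', f', g', h', i'⟩ =>
    ⟨dot3 a b c a' d' g', dot3 a b c b' e' h', dot3 a b c c' f' i',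
     dot3 d e f a' d' g', dot3 d e f b' e' h', dot3 d e f c' f' i',
     dot3 g h i a' d' g', dot3 g h i b' e' h', dot3 g h i c' f' i'⟩

/-- Being a non-zero scalar. -/
def sc : C3 → Bool
  | ⟨a, b, c, d, e, f, g, h, i⟩ =>
    (a % 4 != 0) && (b % 4 == 0) && (c % 4 == 0) && (d % 4 == 0) && (f % 4 == 0) && (g % 4 == 0) &&
      (h % 4 == 0) && (a % 4 == e % 4) && (a % 4 == i % 4)

/-- The identity. -/
def one : C3 := ⟨1, 0, 0, 0, 1, 0, 0, 0, 1⟩

/-- The standard involution. -/
def inv0 : C3 := ⟨1, 1, 0, 0, 1, 0, 0, 0, 1⟩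

/-- The involutions whose product with the standard one may have odd order. -/
def other (al s t r : ℕ) : C3 :=
  let u := fmul (finv al) (fadd s (fmul t r))
  ⟨fadd 1 (fmul s 1), fmul s u, fmul s r,
   fmul al 1, fadd 1 (fmul al u), fmul al r,
   fmul t 1, fmul t u, fadd 1 (fmul t r)⟩

/-- The centralizer of the standard involution. -/
def cent (x u v : ℕ) : C3 := ⟨1, x, u, 0, 1, 0, 0, v, 1⟩

/-- The codes of the centralizer. -/
def cents : List C3 :=
  [0, 1, 2, 3].flatMap fun x => [0, 1, 2, 3].flatMap fun u => [0, 1, 2, 3].map fun v => cent x u v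

/-- Equality up to a scalar, for an involution on the right. -/
def eqv (A B : C3) : Bool := sc (mul A B)

/-- Candidates for `f` and `g`. -/
def isF (B f : C3) : Bool :=
  !sc f && sc (mul f f) && (let w := mul B f; sc (mul w (mul w w)))

/-- What is asked of `c` and `t`. -/
def isCT (B f g c t : C3) : Bool :=
  let fg := mul f g
  let bc := mul B c
  let w1 := mul inv0 (mul B (mul c f))
  let w2 := mul B (mul f g)
  let w3 := mul B (mul inv0 c)
  let w4 := mul B (mul c (mul f g))
  let w4' := mul w4 w4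
  sc (mul c c) && sc (mul bc (mul bc bc)) &&
  (let w := mul c f; sc (mul w w)) && (let w := mul c g; sc (mul w w)) &&
  (let w := mul inv0 c; sc (mul w w)) &&
  (let w := mul w1 w1; sc (mul w1 (mul w w))) &&
  (let w := mul w2 w2; sc (mul w2 (mul w w))) &&
  !sc (mul w3 (mul w3 w3)) &&
  !sc w4 && sc (mul w4 (mul w4' (mul w4' w4'))) &&
  sc (mul t t) && (let w := mul inv0 t; sc (mul w w)) &&
  (let fg3 := mul fg (mul fg fg); sc (mul (mul fg t) (mul (mul fg3 t) c))) &&
  cents.all fun x =>
    !(sc (mul (mul f x) (mul f (mul x (mul x x)))) && sc (mul (mul g x) (mul g (mul x (mul x x))))) ||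
      sc x || eqv x inv0 || eqv x c || eqv x (mul inv0 c)

/-- The check for one involution. -/
def checkB (B : C3) : Bool :=
  let ab := mul inv0 B
  let ab2 := mul ab ab
  sc ab || !sc (mul ab (mul ab2 ab2)) ||
    (let fs := cents.filter (isF B)
     fs.all fun f => fs.all fun g =>
      (let fg := mul f g; !sc (mul (mul fg fg) inv0)) ||
        [2, 3].any fun x => [1, 2, 3].any fun v => isCT B f g (cent x 0 0) (cent 0 0 v))

/-- The check. -/
def check : Bool :=
  [1, 2, 3].all fun al => [0, 1, 2, 3].all fun s => [0, 1, 2, 3].all fun t => [0, 1, 2, 3].all fun r =>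
    checkB (other al s t r)

theorem check_eq : check = true := by decide +kernel

end Cfsg.Agent.SuzukiRecog.PlaneCode
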