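import Cfsg.Agent.Lib.SuzukiRecog.PlaneCode

/-!
Reading the coded matrices in `PSL₃(F)`, `|F| = 4`.
-/

set_option autoImplicit false
set_option linter.all false
set_option maxRecDepth 100000

namespace Cfsg.Agent.SuzukiRecog.PlaneCode

open Matrix

universe u

variable {F : Type u} [Field F] [Fintype F]

local notation "M3" => Matrix (Fin 3) (Fin 3) F
local notation "SL3" => Matrix.SpecialLinearGroup (Fin 3) F
local notation "P3" => Matrix.ProjectiveSpecialLinearGroup (Fin 3) F

theorem exists_omega (h4 : Fintype.card F = 4) : ∃ w : F, w * w = w + 1 := by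
  classical
  obtain ⟨w, hw⟩ : ∃ w : F, w ∉ ({0, 1} : Finset F) := by
    by_contra! hall
    have h := Finset.card_le_card (s := Finset.univ) (fun v _ => hall v)
    have : ({0, 1} : Finset F).card ≤ 2 := Finset.card_le_two
    rw [Finset.card_univ] at h
    omega
  simp only [Finset.mem_insert, Finset.mem_singleton, not_or] at hw
  refine ⟨w, ?_⟩
  have h2 := CIT.Gen.two_eq_zero_four h4
  have h : (w - 1) * (w * w + w + 1) = 0 := by linear_combination CIT.Gen.pow_three_eq_one h4 hw.1
  have h' := (mul_eq_zero.1 h).resolve_left (sub_ne_zero.2 hw.2)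
  linear_combination h' - (w + 1) * h2

/-- The hypotheses on the reading of codes. -/
structure Read (F : Type u) [Field F] [Fintype F] where
  h4 : Fintype.card F = 4
  w : F
  hw : w * w = w + 1

variable (D : Read F)

/-- The value of a code. -/
def Read.v (n : ℕ) : F := ![0, 1, D.w, D.w + 1] ⟨n % 4, Nat.mod_lt _ (by norm_num)⟩

theorem Read.two (D : Read F) : (2 : F) = 0 := CIT.Gen.two_eq_zero_four D.h4

theorem Read.v_mod (n : ℕ) : D.v (n % 4) = D.v n := by
  unfold Read.v; congr 1; ext; exact Nat.mod_mod _ _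

theorem Read.w_ne : D.w ≠ 0 ∧ D.w + 1 ≠ 0 ∧ D.w ≠ 1 := by
  have h2 := D.two
  refine ⟨fun e => ?_, fun e => ?_, fun e => ?_⟩ <;> refine one_ne_zero (α := F) ?_
  · linear_combination -D.hw + (D.w - 1) * e
  · linear_combination D.hw - (D.w - 2) * e
  · linear_combination -D.hw + D.w * e

theorem Read.v_add (a b : ℕ) : D.v (fadd a b) = D.v a + D.v b := by
  rw [← D.v_mod a, ← D.v_mod b, fadd]
  have ha := Nat.mod_lt a (by norm_num : 4 > 0)
  have hb := Nat.mod_lt b (by norm_num : 4 > 0)
  have h2 := D.two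
  generalize a % 4 = i at ha ⊢
  generalize b % 4 = j at hb ⊢
  interval_cases i <;> interval_cases j <;> simp [Read.v] <;>
    first
      | linear_combination (-D.w) * h2
      | linear_combination (-1 : F) * h2
      | linear_combination (-(D.w + 1)) * h2
      | ring
      | grind

theorem Read.v_mul (a b : ℕ) : D.v (fmul a b) = D.v a * D.v b := by
  have e : fmul a b = fmul (a % 4) (b % 4) := by unfold fmul; rw [Nat.mod_mod, Nat.mod_mod]
  rw [e, ← D.v_mod a, ← D.v_mod b]
  have ha := Nat.mod_lt a (by norm_num : 4 > 0)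
  have hb := Nat.mod_lt b (by norm_num : 4 > 0)
  have h2 := D.two
  have hw := D.hw
  generalize a % 4 = i at ha ⊢
  generalize b % 4 = j at hb ⊢
  interval_cases i <;> interval_cases j <;> simp [Read.v, fmul, Nat.shiftRight_eq_div_pow] <;>
    first
      | linear_combination hw
      | linear_combination -hw
      | linear_combination -hw - h2 * D.w
      | linear_combination -hw - (D.w + 1) * h2
      | ring
      | grind

theorem Read.v_surj (x : F) : ∃ n, n < 4 ∧ D.v n = x := by
  classical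
  obtain ⟨h0, h1, h3⟩ := D.w_ne
  have hinj : Function.Injective fun n : Fin 4 => D.v n := by
    have h2 := D.two
    intro i j e
    fin_cases i <;> fin_cases j <;> simp [Read.v] at e ⊢ <;>
      first
        | exact h0 e | exact h0 e.symm | exact h1 e | exact h1 e.symm | exact h3 e | exact h3 e.symm
        | exact one_ne_zero e | exact one_ne_zero e.symm | (exfalso; exact one_ne_zero (α := F) (by linear_combination e))
        | (exfalso; exact one_ne_zero (α := F) (by linear_combination -e))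
        | (exfalso; exact h0 (by linear_combination e)) | (exfalso; exact h0 (by linear_combination -e))
  obtain ⟨n, hn⟩ := ((Fintype.bijective_iff_injective_and_card _).2 ⟨hinj, by simp [D.h4]⟩).2 x
  exact ⟨n, n.2, hn⟩

theorem Read.v_eq_zero {n : ℕ} : D.v n = 0 ↔ n % 4 = 0 := by
  rw [← D.v_mod]
  have hn := Nat.mod_lt n (by norm_num : 4 > 0)
  obtain ⟨h0, h1, h3⟩ := D.w_ne
  generalize n % 4 = i at hn ⊢
  interval_cases i <;> simp [Read.v, h0, h1]

theorem Read.v_inj {m n : ℕ} : D.v m = D.v n ↔ m % 4 = n % 4 := by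
  constructor
  · intro e
    have h : D.v (fadd m n) = 0 := by rw [D.v_add, e]; linear_combination D.v n * D.two
    rw [D.v_eq_zero, fadd] at h
    have hm := Nat.mod_lt m (by norm_num : 4 > 0)
    have hn := Nat.mod_lt n (by norm_num : 4 > 0)
    generalize m % 4 = i at hm h ⊢
    generalize n % 4 = j at hn h ⊢
    interval_cases i <;> interval_cases j <;> revert h <;> decide
  · intro e; rw [← D.v_mod m, e, D.v_mod]

theorem Read.v_inv {a : ℕ} (h : a % 4 ≠ 0) : D.v (finv a) * D.v a = 1 := by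
  have e : fmul (finv a) a % 4 = 1 % 4 := by
    unfold fmul finv
    have ha := Nat.mod_lt a (by norm_num : 4 > 0)
    generalize a % 4 = i at ha h ⊢
    interval_cases i <;> first | omega | decide
  rw [← D.v_mul, D.v_inj.2 e]; simp [Read.v]

/-- The matrix of a code. -/
def Read.dec : C3 → M3
  | ⟨a, b, c, d, e, f, g, h, i⟩ =>
    !![D.v a, D.v b, D.v c; D.v d, D.v e, D.v f; D.v g, D.v h, D.v i]

theorem Read.dec_mul (A B : C3) : D.dec (mul A B) = D.dec A * D.dec B := by
  obtain ⟨a, b, c, d, e, f, g, h, i⟩ := A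
  obtain ⟨a', b', c', d', e', f', g', h', i'⟩ := B
  ext r s
  fin_cases r <;> fin_cases s <;>
    simp [mul, Read.dec, Matrix.mul_apply, Fin.sum_univ_three, dot3, D.v_add, D.v_mul] <;> ring

theorem Read.sc_iff (A : C3) : sc A = true ↔ ∃ c : F, c ≠ 0 ∧ D.dec A = c • (1 : M3) := by
  obtain ⟨a, b, c, d, e, f, g, h, i⟩ := A
  simp only [sc, Bool.and_eq_true, bne_iff_ne, ne_eq, beq_iff_eq]
  simp only [← D.v_eq_zero, ← D.v_inj]
  constructor
  · rintro ⟨⟨⟨⟨⟨⟨⟨⟨h1, h2⟩, h3⟩, h4⟩, h5⟩, h6⟩, h7⟩, h8⟩, h9⟩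
    refine ⟨D.v a, h1, ?_⟩
    ext r s
    fin_cases r <;> fin_cases s <;> simp [Read.dec, h2, h3, h4, h5, h6, h7, ← h8, ← h9]
  · rintro ⟨k, hk, hA⟩
    have E := fun r s => congrFun (congrFun hA r) s
    have e00 := E 0 0; have e01 := E 0 1; have e02 := E 0 2
    have e10 := E 1 0; have e11 := E 1 1; have e12 := E 1 2
    have e20 := E 2 0; have e21 := E 2 1; have e22 := E 2 2
    simp [Read.dec] at e00 e01 e02 e10 e11 e12 e20 e21 e22
    refine ⟨⟨⟨⟨⟨⟨⟨⟨?_, e01⟩, e02⟩, e10⟩, e12⟩, e20⟩, e21⟩, ?_⟩, ?_⟩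
    · rw [e00]; exact hk
    · rw [e00, e11]
    · rw [e00, e22]

/-- `A` is a code of `x`. -/
def Is (A : C3) (x : P3) : Prop := ∃ M : SL3, (M : M3) = D.dec A ∧ QuotientGroup.mk M = x

theorem Is.mul {A B : C3} {x y : P3} (hA : Is D A x) (hB : Is D B y) :
    Is D (PlaneCode.mul A B) (x * y) := by
  obtain ⟨M, hM, rfl⟩ := hA
  obtain ⟨N, hN, rfl⟩ := hB
  exact ⟨M * N, by rw [Matrix.SpecialLinearGroup.coe_mul, hM, hN, D.dec_mul], rfl⟩

theorem Is.sc_iff {A : C3} {x : P3} (hA : Is D A x) : sc A = true ↔ x = 1 := by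
  obtain ⟨M, hM, rfl⟩ := hA
  rw [D.sc_iff, ← hM]
  constructor
  · rintro ⟨c, -, hc⟩
    rw [← QuotientGroup.mk_one]
    exact CIT.Gen.mk_eq_mk_of_scalar (c := c) (by rw [hc, Matrix.SpecialLinearGroup.coe_one])
  · intro h
    obtain ⟨c, hc3, hc⟩ := Matrix.SpecialLinearGroup.mem_center_iff.1 ((QuotientGroup.eq_one_iff M).1 h)
    rw [Fintype.card_fin] at hc3
    refine ⟨c, fun e => ?_, ?_⟩
    · rw [e, zero_pow (by norm_num)] at hc3; exact zero_ne_one hc3
    · rw [← hc, Matrix.scalar_apply, Matrix.smul_one_eq_diagonal]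

end Cfsg.Agent.SuzukiRecog.PlaneCode
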