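import Cfsg.Agent.Lib.SuzukiLocal.FactsProof
import Cfsg.Agent.Lib.SuzukiLocal.Five
import Cfsg.Agent.Lib.SuzukiRecog.AltSixSquare
import Cfsg.Agent.S0497

/-!
A group `A₆` centralized by an element of order five and by the second involution `t`.
-/

set_option autoImplicit false
set_option linter.all false
set_option maxRecDepth 8000

namespace Cfsg.Agent.SuzukiRecog

open Subgroup SuzukiLocal GroupStructure3.AutAltSix

attribute [local irreducible] ga gb gc gd

/-- The alternating group of degree six. -/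
abbrev A6 := alternatingGroup (Fin 6)

instance a6_simple : IsSimpleGroup A6 := alternatingGroup.isSimpleGroup (by simp)

theorem card_A6 : Nat.card A6 = 360 := by
  rw [nat_card_alternatingGroup, Nat.card_fin]; rfl

theorem gab_five : (ga * gb) ^ 5 = 1 ∧ ga * gb ≠ 1 := by
  have h := gen_five.1
  simp only [is5, Bool.and_eq_true, beq_iff_eq, bne_iff_ne, ne_eq, ← enc_mul, ← Subgroup.coe_mul, key] at h
  refine ⟨?_, h.2⟩
  rw [← h.1]; simp [pow_succ, mul_assoc]

theorem orderOf_gab : orderOf (ga * gb) = 5 :=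
  haveI : Fact (Nat.Prime 5) := ⟨Nat.prime_five⟩
  orderOf_eq_prime gab_five.1 gab_five.2

theorem a6_center {u : A6} (h : ∀ v : A6, u * v = v * u) : u = 1 := by
  rcases IsSimpleGroup.eq_bot_or_eq_top_of_normal (Subgroup.center A6) inferInstance with e | e
  · exact mem_bot.1 (e ▸ mem_center_iff.2 fun v => (h v).symm)
  · exfalso
    have hc : ∀ x y : A6, x * y = y * x := fun x y => mem_center_iff.1 (e ▸ mem_top y) x
    letI : CommGroup A6 := { (inferInstance : Group A6) with mul_comm := hc }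
    have hp := IsSimpleGroup.prime_card (α := A6)
    rw [card_A6] at hp
    norm_num at hp

section Oct

universe u

variable {K : Type u} [Group K] [Finite K] {t i s : K}

theorem oct_simple (h : Oct t i s) (hK : Nat.card K = 360)
    (h5 : ∀ l : K, orderOf l = 5 → Nat.card (centralizer ({l} : Set K)) = 5 ∧
      Nat.card (normalizer (zpowers l : Set K)) = 10) : IsSimpleGroup K := by
  classical
  haveI : Nontrivial K := Finite.one_lt_card_iff_nontrivial.1 (by rw [hK]; norm_num)
  haveI : Fact (Nat.Prime 5) := ⟨Nat.prime_five⟩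
  haveI : Fact (Nat.Prime 2) := ⟨Nat.prime_two⟩
  refine ⟨fun N hN => or_iff_not_imp_left.2 fun hne => ?_⟩
  haveI := hN
  have hNd : Nat.card N ∣ 360 := hK ▸ card_subgroup_dvd_card N
  have hmul := N.card_mul_index
  rw [hK] at hmul
  have hinv : 2 ∣ Nat.card N → ∀ x : K, orderOf x = 2 → x ∈ N := fun h2 x hx => by
    obtain ⟨y, hy⟩ := exists_prime_orderOf_dvd_card' (G := N) 2 h2
    obtain ⟨c, hc⟩ := isConj_iff.1 ((h.conj_t (x := (y : K)) (by rw [Subgroup.orderOf_coe, hy])).trans (h.conj_t hx).symm)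
    rw [← hc]
    exact hN.conj_mem _ y.2 c
  obtain ⟨l, hl⟩ := exists_prime_orderOf_dvd_card' (G := K) 5 (by rw [hK]; norm_num)
  by_cases h5N : 5 ∣ Nat.card N
  · -- the Frattini argument
    obtain ⟨P⟩ : Nonempty (Sylow 5 N) := inferInstance
    have hF := Sylow.normalizer_sup_eq_top P
    set R := (P : Subgroup N).map N.subtype with hR
    have hR5 : Nat.card R = 5 := by
      rw [hR, card_map_of_injective N.subtype_injective]
      obtain ⟨k, hk⟩ := IsPGroup.iff_card.1 P.isPGroup'
      have h1 : 5 ∣ 5 ^ k := hk ▸ P.dvd_card_of_dvd_card h5N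
      have h2 : 5 ^ k ∣ 360 := hk ▸ (card_subgroup_dvd_card (P : Subgroup N)).trans hNd
      have : k = 1 := by
        rcases k with _ | _ | k
        · norm_num at h1
        · rfl
        · exact absurd ((pow_dvd_pow 5 (show 2 ≤ k + 2 by omega)).trans h2) (by norm_num)
      rw [hk, this, pow_one]
    obtain ⟨m, hm⟩ := exists_prime_orderOf_dvd_card' (G := R) 5 (by rw [hR5])
    have hRm : zpowers (m : K) = R :=
      eq_of_le_of_card_ge (zpowers_le.2 m.2) (by rw [Nat.card_zpowers, Subgroup.orderOf_coe, hm, hR5])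
    have hN10 : Nat.card (normalizer (R : Set K)) = 10 :=
      hRm ▸ (h5 _ (by rw [Subgroup.orderOf_coe, hm])).2
    have hidx : N.index ∣ 2 := by
      have h1 : N.index ∣ Nat.card (normalizer (R : Set K)) := by
        refine Dvd.intro_left (Nat.card (N.subgroupOf (normalizer (R : Set K)))) ?_
        have h2 := (N.subgroupOf (normalizer (R : Set K))).card_mul_index
        rwa [show (N.subgroupOf (normalizer (R : Set K))).index = N.index by
          rw [← Subgroup.relIndex, ← Subgroup.relIndex_sup_right, sup_comm, sup_comm, hF, relIndex_top_right]] at h2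
      rw [hN10] at h1
      have h5i : ¬ 5 ∣ N.index := fun h5i => by
        have := Nat.mul_dvd_mul h5N h5i
        rw [hmul] at this
        norm_num at this
      have hd : N.index ∣ 2 * 5 := h1
      exact (Nat.Coprime.dvd_of_dvd_mul_right ((Nat.prime_five.coprime_iff_not_dvd.2 h5i).symm) hd)
    rcases (Nat.dvd_prime Nat.prime_two).1 hidx with e | e
    · exact index_eq_one.1 e
    exfalso
    rw [e] at hmul
    have hN180 : Nat.card N = 180 := by omega
    have hall := hinv (by rw [hN180]; norm_num)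
    have hs : s ∈ N := hall s h.s_two
    have his : i * s ∈ N := hall _ (orderOf_eq_prime (by
      rw [pow_two, show i * s * (i * s) = i * (s * i * s⁻¹) * (s * s) by group, h.inv, h.s_sq, mul_inv_cancel, one_mul])
      fun e' => h.s_not_mem (by rw [eq_inv_of_mul_eq_one_right e']; exact inv_mem (mem_zpowers i)))
    have hi : i ∈ N := by simpa [mul_assoc, h.s_sq] using mul_mem his hs
    have h8 := card_dvd_of_le (sup_le (zpowers_le.2 hi) (zpowers_le.2 hs))
    rw [h.sup_eq, h.all t h.t_two, hN180] at h8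
    norm_num at h8
  · exfalso
    let L := zpowers l
    have hL : IsPGroup 5 L := IsPGroup.of_card (n := 1) (by rw [Nat.card_zpowers, hl, pow_one])
    let act : L →* MulAut N := (MulAut.conjNormal (H := N)).comp L.subtype
    letI : MulAction L N := MulAction.compHom N act
    have hfix := hL.card_modEq_card_fixedPoints N
    have hone : Nat.card (MulAction.fixedPoints L N) = 1 := by
      rw [Nat.card_eq_one_iff_unique]
      refine ⟨⟨fun x y => ?_⟩, ⟨⟨1, fun g => map_one (act g)⟩⟩⟩
      have key : ∀ n : MulAction.fixedPoints L N, ((n : N) : K) = 1 := fun n => by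
        have h1 : l * ((n : N) : K) * l⁻¹ = ((n : N) : K) :=
          congrArg Subtype.val (n.2 (⟨l, mem_zpowers l⟩ : L))
        have hC : centralizer ({l} : Set K) = zpowers l :=
          (eq_of_le_of_card_ge (zpowers_le.2 (mem_centralizer_singleton_iff.2 rfl))
            (by rw [(h5 l hl).1, Nat.card_zpowers, hl])).symm
        have h2 : ((n : N) : K) ∈ zpowers l :=
          hC ▸ mem_centralizer_singleton_iff.2 (mul_inv_eq_iff_eq_mul.1 h1).symm
        by_contra hn1
        have h3 := orderOf_dvd_of_mem_zpowers h2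
        rw [hl] at h3
        have h4 := ((Nat.dvd_prime Nat.prime_five).1 h3).resolve_left fun e => hn1 (orderOf_eq_one_iff.1 e)
        exact h5N (by have := orderOf_dvd_natCard (n : N); rwa [← Subgroup.orderOf_coe, h4] at this)
      exact Subtype.ext (Subtype.ext ((key x).trans (key y).symm))
    rw [hone] at hfix
    unfold Nat.ModEq at hfix
    have hd72 : Nat.card N ∣ 72 :=
      (Nat.prime_five.coprime_iff_not_dvd.2 h5N).symm.dvd_of_dvd_mul_left (show Nat.card N ∣ 5 * 72 by norm_num; exact hNd)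
    have hne1 : Nat.card N ≠ 1 := fun e => hne (Subgroup.card_eq_one.1 e)
    have h6 : Nat.card N = 6 ∨ Nat.card N = 36 := by
      have key : ∀ n ∈ Nat.divisors 72, n % 5 = 1 → n ≠ 1 → n = 6 ∨ n = 36 := by decide +kernel
      exact key _ (Nat.mem_divisors.2 ⟨hd72, by norm_num⟩) (by simpa using hfix) hne1
    have hall := hinv (by rcases h6 with e | e <;> rw [e] <;> norm_num)
    have h45 : Nat.card (MulAction.orbit (ConjAct K) t) = 45 := by
      have h1 : Nat.card (MulAction.orbit (ConjAct K) t) = (centralizer ({t} : Set K)).index := by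
        rw [Nat.card_coe_set_eq, ← MulAction.index_stabilizer (ConjAct K) t, ConjAct.stabilizer_eq_centralizer]
        rfl
      have h2 := (centralizer ({t} : Set K)).card_mul_index
      rw [h.all t h.t_two, hK] at h2
      omega
    have hle : Nat.card (MulAction.orbit (ConjAct K) t) ≤ Nat.card N := by
      refine Nat.card_le_card_of_injective (fun x => (⟨(x : K), ?_⟩ : N))
        fun x y e => Subtype.ext (congrArg (fun v : N => (v : K)) e :)
      obtain ⟨c, hc⟩ := x.2
      rw [← hc]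
      exact hall _ (by
        show orderOf (MulAut.conj (ConjAct.ofConjAct c) t) = 2
        rw [MulEquiv.orderOf_eq, h.t_two])
    omega

end Oct

universe v

variable {G : Type v} [Group G] [Finite G] {z t : G} {E : Subgroup G}

/-- The centralizer of an element of order five of the first kind: `5 × A₆`. -/
theorem exists_split (F : Facts z t E) : ∃ (b g : G) (f : A6 →* G), orderOf b = 5 ∧ b * z = z * b ∧
    (∀ x : G, orderOf x = 2 → x * b = b * x → IsConj x z) ∧ g * b * g⁻¹ = b ^ 2 ∧
    Function.Injective f ∧ (∀ u, f u * b = b * f u) ∧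
    (∀ x : G, x * b = b * x → ∃ (u : A6) (j : ℤ), x = f u * b ^ j) ∧
    (∀ (u : A6) (j : ℤ), f u = b ^ j → u = 1) ∧ ∀ u : A6, ∃ v : A6, g * f u * g⁻¹ = f v := by
  classical
  obtain ⟨b, i, s, hb, hbz, hcard, hall, ⟨g, hg⟩, hiz, hib, hii, hsb, hss, hinv⟩ := F.exists_five
  haveI : Fact (Nat.Prime 5) := ⟨Nat.prime_five⟩
  have hodd : Odd (orderOf b) := by rw [hb]; decide
  let z' : centralizer ({b} : Set G) := ⟨z, mem_centralizer_singleton_iff.2 hbz.symm⟩
  let i' : centralizer ({b} : Set G) := ⟨i, mem_centralizer_singleton_iff.2 hib⟩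
  let s' : centralizer ({b} : Set G) := ⟨s, mem_centralizer_singleton_iff.2 hsb⟩
  have hO : Oct (proj b z') (proj b i') (proj b s') := by
    refine ⟨orderOf_proj hodd z' F.z_two, ?_, ?_, ?_, fun q hq => ?_⟩
    · rw [← map_mul]; exact congrArg _ (Subtype.ext hii)
    · rw [← map_mul, show s' * s' = 1 from Subtype.ext hss, map_one]
    · rw [← map_inv, ← map_mul, ← map_mul, ← map_inv]; exact congrArg _ (Subtype.ext hinv)
    · obtain ⟨x, hx, rfl⟩ := exists_lift hodd hq
      have h1 := card_cent_proj hodd x hx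
      rw [card_cent_move (w := z) (b := b) (b₀ := b) (p := 5) (by rw [F.card_cz]; norm_num) hbz hb
        (hall x hx (mem_centralizer_singleton_iff.1 x.2)) (mem_centralizer_singleton_iff.1 x.2).symm hb, hcard, hb] at h1
      omega
  have hd : Nat.card (Quot' b) ∣ 89669099520 := by
    have := F.card_quot_dvd (b := b)
    rw [hb, show (448345497600 : ℕ) = 89669099520 * 5 by norm_num] at this
    exact Nat.dvd_of_mul_dvd_mul_right (by norm_num) this
  obtain ⟨l, hl⟩ := exists_five_quot hb (F.twentyfive_dvd hb)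
  have hK : Nat.card (Quot' b) = 360 := (hO.five hd hl).1
  haveI : IsSimpleGroup (Quot' b) := oct_simple hO hK fun l hl => (hO.five hd hl).2
  obtain ⟨eQ⟩ := S0497.result hK
  set C := centralizer ({b} : Set G) with hC
  let b' : C := ⟨b, mem_centralizer_singleton_iff.2 rfl⟩
  have hC1800 : Nat.card C = 1800 := by rw [hC, card_quot, hK, hb]
  have hb' : orderOf b' = 5 := by rw [← Subgroup.orderOf_coe]; exact hb
  -- transfer to a Sylow subgroup
  obtain ⟨P, hP⟩ := (IsPGroup.of_card (G := zpowers b') (n := 1)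
    (by rw [Nat.card_zpowers, hb', pow_one])).exists_le_sylow
  have hP25 : Nat.card (P : Subgroup C) = 25 := by
    rw [Sylow.card_eq_multiplicity, hC1800, show (1800 : ℕ) = 5 ^ 2 * 72 by norm_num,
      Nat.factorization_mul (by norm_num) (by norm_num), Finsupp.add_apply,
      Nat.Prime.factorization_pow Nat.prime_five, Nat.factorization_eq_zero_of_not_dvd (by norm_num : ¬ 5 ∣ 72)]
    simp
  haveI := IsPGroup.isMulCommutative_of_card_eq_prime_sq (p := 5) (G := (P : Subgroup C)) (by rw [hP25]; norm_num)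
  letI : CommGroup (P : Subgroup C) := { (inferInstance : Group (P : Subgroup C)) with mul_comm := fun x y => mul_comm' x y }
  let ψ : C →* (P : Subgroup C) := MonoidHom.transfer (MonoidHom.id (P : Subgroup C))
  have hi72 : (P : Subgroup C).index = 72 := by
    have := (P : Subgroup C).card_mul_index
    rw [hP25, hC1800] at this
    omega
  have hbcen : ∀ (j : ℕ) (y : C), y⁻¹ * b' ^ j * y = b' ^ j := fun j y => by
    rw [mul_assoc, ((show Commute b' y from Subtype.ext (mem_centralizer_singleton_iff.1 y.2).symm).pow_left j).eq,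
      inv_mul_cancel_left]
  have hψb : (ψ b' : C) = b' ^ 72 := by
    have := MonoidHom.transfer_eq_pow (ϕ := MonoidHom.id (P : Subgroup C)) b' fun k y _ => hbcen k y
    rw [this, MonoidHom.id_apply]
    show b' ^ (P : Subgroup C).index = b' ^ 72
    rw [hi72]
  set K0 := ψ.ker with hK0
  have hdisj : ∀ x : C, x ∈ K0 → x ∈ cycSub b → x = 1 := fun x hx hx' => by
    obtain ⟨j, hj⟩ := mem_subgroupOf.1 hx'
    have hxe : x = b' ^ j := Subtype.ext (by rw [SubgroupClass.coe_zpow]; exact hj.symm)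
    have h1 : ((ψ x : (P : Subgroup C)) : C) = 1 := by rw [MonoidHom.mem_ker.1 hx]; rfl
    rw [hxe, map_zpow, SubgroupClass.coe_zpow, hψb, ← zpow_natCast, ← zpow_mul, ← orderOf_dvd_iff_zpow_eq_one, hb'] at h1
    rw [hxe, ← orderOf_dvd_iff_zpow_eq_one, hb']
    omega
  let π : K0 →* Quot' b := (proj b).comp K0.subtype
  have hπi : Function.Injective π := (injective_iff_map_eq_one π).2 fun x hx =>
    Subtype.ext (hdisj x x.2 ((QuotientGroup.eq_one_iff _).1 hx))
  have hKcard : Nat.card C ∣ Nat.card K0 * 25 := by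
    rw [← K0.card_mul_index, hK0, Subgroup.index_ker]
    exact Nat.mul_dvd_mul_left _ (hP25 ▸ card_subgroup_dvd_card ψ.range)
  have hπs : Function.Surjective π := by
    rw [← MonoidHom.range_eq_top]
    have hn : π.range.Normal := by
      rw [MonoidHom.range_comp, Subgroup.range_subtype]
      exact Subgroup.Normal.map inferInstance _ (QuotientGroup.mk'_surjective _)
    refine (IsSimpleGroup.eq_bot_or_eq_top_of_normal π.range hn).resolve_left fun e => ?_
    have h1 : Nat.card K0 = 1 := by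
      rw [Nat.card_congr (MonoidHom.ofInjective hπi).toEquiv, e, Subgroup.card_bot]
    rw [h1, hC1800] at hKcard
    norm_num at hKcard
  let ε : K0 ≃* Quot' b := MulEquiv.ofBijective π ⟨hπi, hπs⟩
  let f : A6 →* G := C.subtype.comp (K0.subtype.comp (eQ.symm.trans ε.symm).toMonoidHom)
  have hf : ∀ u, f u * b = b * f u := fun u => mem_centralizer_singleton_iff.1 (Subtype.coe_prop _)
  have hfK : ∀ y : C, y ∈ K0 → ∃ u, f u = y := fun y hy => ⟨eQ (ε ⟨y, hy⟩), by simp [f]⟩
  refine ⟨b, g, f, hb, hbz, hall, hg,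
    C.subtype_injective.comp (K0.subtype_injective.comp (eQ.symm.trans ε.symm).injective), hf, fun x hx => ?_,
    fun u j hu => ?_, fun u => ?_⟩
  · let x' : C := ⟨x, mem_centralizer_singleton_iff.2 hx⟩
    obtain ⟨k, hk⟩ := hπs (proj b x')
    obtain ⟨u, hu⟩ := hfK k k.2
    obtain ⟨j, hj⟩ := (proj_eq_one_iff ((k : C)⁻¹ * x')).1 (by rw [map_mul, map_inv, ← hk]; exact inv_mul_cancel _)
    refine ⟨u, j, ?_⟩
    rw [show b ^ j = (((k : C)⁻¹ * x' : C) : G) from hj, hu]
    show x = ((k : C) : G) * (((k : C) : G)⁻¹ * x)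
    rw [mul_inv_cancel_left]
  · have h1 := hdisj ((eQ.symm.trans ε.symm u : K0) : C) (Subtype.coe_prop _)
      (mem_subgroupOf.2 ⟨j, hu.symm⟩)
    exact (eQ.symm.trans ε.symm).injective ((Subtype.ext h1).trans (map_one _).symm)
  · -- `g` normalizes the derived subgroup
    have hgC : ∀ w : A6, g * f w * g⁻¹ ∈ C := fun w => by
      refine mem_centralizer_singleton_iff.2 ?_
      have h1 : (f w) * b ^ 3 = b ^ 3 * f w := ((show Commute (f w) b from hf w).pow_right 3).eq
      have h2 : b = g * b ^ 3 * g⁻¹ := by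
        rw [← conj_pow, hg, ← pow_mul, show 2 * 3 = 5 + 1 by norm_num, pow_succ, ← hb, pow_orderOf_eq_one, one_mul]
      nth_rw 1 [h2]
      nth_rw 2 [h2]
      calc g * f w * g⁻¹ * (g * b ^ 3 * g⁻¹) = g * (f w * b ^ 3) * g⁻¹ := by group
        _ = g * (b ^ 3 * f w) * g⁻¹ := by rw [h1]
        _ = _ := by group
    let φ : A6 →* C := ((MulAut.conj g).toMonoidHom.comp f).codRestrict C hgC
    have hker : (ψ.comp φ).ker = ⊤ := (IsSimpleGroup.eq_bot_or_eq_top_of_normal _ inferInstance).resolve_left fun e => by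
      have h1 := Nat.card_le_card_of_injective _ ((MonoidHom.ker_eq_bot_iff _).1 e)
      rw [card_A6, hP25] at h1
      norm_num at h1
    have hu : u ∈ (ψ.comp φ).ker := by rw [hker]; exact mem_top u
    obtain ⟨v, hv⟩ := hfK (φ u) (MonoidHom.mem_ker.2 (MonoidHom.mem_ker.1 hu :))
    exact ⟨v, hv.symm⟩

/-- An element of order five of the derived subgroup is not conjugate into the central five-group. -/
theorem line_not_conj (F : Facts z t E) {b u x : G} (hb : orderOf b = 5) (hu : orderOf u = 5)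
    (hbu : b * u = u * b) (hind : u ∉ zpowers b) (hxb : x * b * x⁻¹ = b⁻¹) (hxu : x * u = u * x) (hxx : x * x = 1)
    (g : G) : zpowers (g * b * g⁻¹) ≠ zpowers u := by
  classical
  haveI : Fact (Nat.Prime 5) := ⟨Nat.prime_five⟩
  intro hgu
  let φ : zpowers b × zpowers u →* G := (zpowers b).subtype.noncommCoprod (zpowers u).subtype
    (by
      rintro ⟨p, i, rfl⟩ ⟨q, j, rfl⟩
      exact ((show Commute b u from hbu).zpow_left i).zpow_right j)
  have hφi : Function.Injective φ := (injective_iff_map_eq_one φ).2 fun ⟨p, q⟩ h => by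
    have h' : (p : G) * q = 1 := h
    have hq : (q : G) = 1 := by
      by_contra hq
      refine hind ?_
      have h2 : (q : G) ∈ zpowers b := by rw [eq_inv_of_mul_eq_one_right h']; exact inv_mem p.2
      rw [eq_of_five (by rw [Nat.card_zpowers, hb]) (by rw [Nat.card_zpowers, hu]) h2 q.2 hq]
      exact mem_zpowers u
    rw [hq, mul_one] at h'
    exact Prod.ext (Subtype.ext h') (Subtype.ext hq)
  have hR : Nat.card φ.range = 25 := by
    rw [← Nat.card_congr (MonoidHom.ofInjective hφi).toEquiv, Nat.card_prod, Nat.card_zpowers, Nat.card_zpowers, hb, hu]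
  obtain ⟨P, hP⟩ := (IsPGroup.of_card (p := 5) (G := φ.range) (n := 2) (by rw [hR]; norm_num)).exists_le_sylow
  have hPeq : φ.range = (P : Subgroup G) := eq_of_le_of_card_ge hP (by rw [hR, F.five_card P])
  have hbP : b ∈ (P : Subgroup G) := hP ⟨(⟨b, mem_zpowers b⟩, 1), mul_one b⟩
  have huP : u ∈ (P : Subgroup G) := hP ⟨(1, ⟨u, mem_zpowers u⟩), one_mul u⟩
  have hxi : ∀ i : ℤ, x * b ^ i * x⁻¹ = b ^ (-i) := fun i => by rw [← conj_zpow, hxb, inv_zpow, zpow_neg]
  have hxP : ∀ w ∈ (P : Subgroup G), x * w * x⁻¹ ∈ (P : Subgroup G) := fun w hw => by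
    obtain ⟨⟨⟨p, i, rfl⟩, ⟨q, j, rfl⟩⟩, rfl⟩ := hPeq.ge hw
    show x * (b ^ i * u ^ j) * x⁻¹ ∈ (P : Subgroup G)
    rw [show x * (b ^ i * u ^ j) * x⁻¹ = (x * b ^ i * x⁻¹) * (x * u ^ j * x⁻¹) by group, hxi,
      ((show Commute x u from hxu).zpow_right j).eq, mul_inv_cancel_right]
    exact mul_mem (zpow_mem hbP _) (zpow_mem huP _)
  -- the fixed lines
  have hfix : ∀ S : Line (P : Subgroup G), (∀ w ∈ S.1, x * w * x⁻¹ ∈ S.1) → S.1 = zpowers b ∨ S.1 = zpowers u := by
    intro S hS
    obtain ⟨w, hw⟩ := exists_prime_orderOf_dvd_card' (G := S.1) 5 (by rw [S.2.1])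
    have hw1 : (w : G) ≠ 1 := fun e => by
      rw [← Subgroup.orderOf_coe, e, orderOf_one] at hw; norm_num at hw
    obtain ⟨⟨⟨p, i, rfl⟩, ⟨q, j, rfl⟩⟩, hpq⟩ := hPeq.ge (S.2.2 w.2)
    have hpq' : b ^ i * u ^ j = (w : G) := hpq
    by_cases hj : u ^ j = 1
    · left
      rw [hj, mul_one] at hpq'
      exact eq_of_five S.2.1 (by rw [Nat.card_zpowers, hb]) w.2 (hpq' ▸ zpow_mem_zpowers b i) hw1
    · right
      have h1 := mul_mem (hS w w.2) w.2
      rw [← hpq', show x * (b ^ i * u ^ j) * x⁻¹ = (x * b ^ i * x⁻¹) * (x * u ^ j * x⁻¹) by group, hxi,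
        ((show Commute x u from hxu).zpow_right j).eq, mul_inv_cancel_right, mul_assoc,
        ← mul_assoc (u ^ j), (((show Commute u b from hbu.symm).zpow_left j).zpow_right i).eq, mul_assoc,
        ← mul_assoc, zpow_neg, inv_mul_cancel, one_mul, ← zpow_add] at h1
      refine eq_of_five S.2.1 (by rw [Nat.card_zpowers, hu]) h1 (zpow_mem_zpowers u _) fun e => hj ?_
      rw [← orderOf_dvd_iff_zpow_eq_one, hu] at e ⊢
      omega
  obtain ⟨b₀, l₀, hb₀, hl₀, hb₀P, hl₀P, -, -, -, hnc, h600, h200, hall⟩ := F.five_main P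
  set N := normalizer ((P : Subgroup G) : Set G) with hN
  set St := (normalizer (zpowers b₀ : Set G)).subgroupOf N with hSt
  obtain ⟨fo, hfo, hfov⟩ := exists_orbit (P := (P : Subgroup G))
    ⟨zpowers b₀, (by rw [Nat.card_zpowers, hb₀] : Nat.card (zpowers b₀) = 5), zpowers_le.2 hb₀P⟩
  set R := {S : Line (P : Subgroup G) // ∃ c : G, (zpowers b₀).map (MulAut.conj c).toMonoidHom = S.1}
  have h3 : Nat.card R = 3 := by
    let F0 : ↥N ⧸ St → R := fun q => ⟨fo q, by
      induction q using QuotientGroup.induction_on with | H n => exact ⟨(n : G), (hfov n).symm⟩⟩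
    have hF0 : Function.Bijective F0 := by
      refine ⟨fun q q' e => hfo (congrArg Subtype.val e), ?_⟩
      rintro ⟨S, c, hc⟩
      obtain ⟨n, hn, h | h⟩ := hall S
      · exact ⟨QuotientGroup.mk ⟨n, hn⟩, Subtype.ext (Subtype.ext ((hfov _).trans h))⟩
      · refine absurd ?_ (hnc (n⁻¹ * c))
        rw [← map_conj_mul, hc, ← h, map_conj_mul, inv_mul_cancel, (map_conj_eq_iff _ _).2 (one_mem _)]
    have hm := St.card_mul_index
    have hc : Nat.card St = 200 := by rw [hSt, card_subgroupOf, inf_comm, h200]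
    rw [hc, h600] at hm
    rw [← Nat.card_eq_of_bijective F0 hF0, ← Subgroup.index_eq_card]; omega
  have hxL : ∀ S : Line (P : Subgroup G), Nat.card (S.1.map (MulAut.conj x).toMonoidHom) = 5 ∧
      S.1.map (MulAut.conj x).toMonoidHom ≤ (P : Subgroup G) := fun S => by
    refine ⟨by rw [card_map_of_injective (f := (MulAut.conj x).toMonoidHom) (MulAut.conj x).injective, S.2.1], ?_⟩
    rintro _ ⟨w, hw, rfl⟩
    exact hxP w (S.2.2 hw)
  let σ : R → R := fun S => ⟨⟨S.1.1.map (MulAut.conj x).toMonoidHom, hxL S.1⟩, by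
    obtain ⟨c, hc⟩ := S.2
    exact ⟨x * c, by rw [← map_conj_mul, hc]⟩⟩
  have hσ : ∀ S, σ (σ S) = S := fun S => Subtype.ext (Subtype.ext (by
    show (S.1.1.map (MulAut.conj x).toMonoidHom).map (MulAut.conj x).toMonoidHom = S.1.1
    rw [map_conj_mul, hxx, (map_conj_eq_iff _ _).2 (one_mem _)]))
  have hσfix : ∀ S, σ S = S → S.1.1 = zpowers b ∨ S.1.1 = zpowers u := fun S hS => hfix S.1 fun w hw => by
    have h1 : S.1.1.map (MulAut.conj x).toMonoidHom = S.1.1 := congrArg (fun S : R => S.1.1) hS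
    exact h1.le ⟨w, hw, rfl⟩
  have key : ∀ σ : Fin 3 → Fin 3, (∀ i, σ (σ i) = i) → (∃ i, σ i = i) ∧
      ∀ i j, σ i = i → σ j = j → i ≠ j → ∀ k, σ k = k := by decide +kernel
  let ε := Finite.equivFinOfCardEq h3
  obtain ⟨⟨i₀, hi₀⟩, htwo⟩ := key (fun i => ε (σ (ε.symm i))) fun i => by simp [hσ]
  have hi₀' : σ (ε.symm i₀) = ε.symm i₀ := ε.injective (by simpa using hi₀)
  let Lb : Line (P : Subgroup G) := ⟨zpowers b, by rw [Nat.card_zpowers, hb], zpowers_le.2 hbP⟩
  let Lu : Line (P : Subgroup G) := ⟨zpowers u, by rw [Nat.card_zpowers, hu], zpowers_le.2 huP⟩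
  have hboth : (∃ c : G, (zpowers b₀).map (MulAut.conj c).toMonoidHom = zpowers b) ∧
      ∃ c : G, (zpowers b₀).map (MulAut.conj c).toMonoidHom = zpowers u := by
    obtain ⟨c, hc⟩ := (ε.symm i₀).2
    rcases hσfix _ hi₀' with h | h <;> rw [h] at hc
    · exact ⟨⟨c, hc⟩, g * c, by rw [← map_conj_mul, hc, zpowers_conj, hgu]⟩
    · refine ⟨⟨g⁻¹ * c, ?_⟩, c, hc⟩
      rw [← map_conj_mul, hc, ← hgu, zpowers_conj]
      congr 1; group
  let Sb : R := ⟨Lb, hboth.1⟩
  let Su : R := ⟨Lu, hboth.2⟩
  have hSb : σ Sb = Sb := Subtype.ext (Subtype.ext (by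
    show (zpowers b).map (MulAut.conj x).toMonoidHom = zpowers b
    rw [zpowers_conj, hxb, zpowers_inv]))
  have hSu : σ Su = Su := Subtype.ext (Subtype.ext (by
    show (zpowers u).map (MulAut.conj x).toMonoidHom = zpowers u
    rw [zpowers_conj, hxu, mul_inv_cancel_right]))
  have hne : ε Sb ≠ ε Su := fun e => hind (by
    have h1 : zpowers b = zpowers u := congrArg (fun S : R => S.1.1) (ε.injective e)
    rw [h1]; exact mem_zpowers u)
  have hall3 : ∀ S : R, S = Sb ∨ S = Su := fun S => by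
    have h1 : σ S = S := ε.injective (by simpa using htwo (ε Sb) (ε Su) (by simp [hSb]) (by simp [hSu]) hne (ε S))
    rcases hσfix S h1 with h | h
    · exact Or.inl (Subtype.ext (Subtype.ext h))
    · exact Or.inr (Subtype.ext (Subtype.ext h))
  haveI : Fintype R := Fintype.ofFinite R
  have h2 := Finset.card_le_card (s := (Finset.univ : Finset R)) (t := {Sb, Su}) fun S _ => by
    rcases hall3 S with h | h <;> simp [h]
  rw [Finset.card_univ, ← Nat.card_eq_fintype_card, h3] at h2
  have := Finset.card_le_two (a := Sb) (b := Su)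
  omega

/-- A copy of `A₆` in `C(E)`, with an element of order five of the first kind centralizing it. -/
structure Six (z : G) (E : Subgroup G) (f : A6 →* G) (r : G) : Prop where
  inj : Function.Injective f
  cent : ∀ u, f u ∈ centralizer (E : Set G)
  order : orderOf r = 5
  comm : ∀ u, f u * r = r * f u
  hall : ∀ x : G, orderOf x = 2 → x * r = r * x → IsConj x z

theorem exists_six (F : Facts z t E) : ∃ (f : A6 →* G) (r : G), Six z E f r := by
  classical
  haveI : Fact (Nat.Prime 5) := ⟨Nat.prime_five⟩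
  obtain ⟨b, g, f, hb, hbz, hall, hg, hfi, hfb, hdec, hker, hgn⟩ := exists_split F
  choose φ0 hφ0 using hgn
  let φh : A6 →* A6 := MonoidHom.mk' φ0 fun u v => hfi (by
    rw [map_mul, ← hφ0, ← hφ0, ← hφ0, map_mul]; group)
  have hφi : Function.Injective φh := fun u v e => hfi ((MulAut.conj g).injective (by
    show g * f u * g⁻¹ = g * f v * g⁻¹
    rw [hφ0, hφ0]; exact congrArg f e))
  let φ : MulAut A6 := MulEquiv.ofBijective φh ⟨hφi, Finite.injective_iff_surjective.1 hφi⟩
  have hφ : ∀ u, g * f u * g⁻¹ = f (φ u) := hφ0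
  obtain ⟨h, hh⟩ := sq_inner φ
  set x := (f h)⁻¹ * (g * g) with hx
  have hb4 : (b : G) ^ 4 = b⁻¹ := eq_inv_of_mul_eq_one_left (by
    rw [← pow_succ, show 4 + 1 = orderOf b by rw [hb], pow_orderOf_eq_one])
  have hxb : x * b * x⁻¹ = b⁻¹ := by
    have e : g * g * b * (g * g)⁻¹ = b⁻¹ := by
      rw [show g * g * b * (g * g)⁻¹ = g * (g * b * g⁻¹) * g⁻¹ by group, hg, ← conj_pow, hg, ← pow_mul,
        show 2 * 2 = 4 by norm_num, hb4]
    calc x * b * x⁻¹ = (f h)⁻¹ * (g * g * b * (g * g)⁻¹) * f h := by rw [hx]; group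
      _ = (f h)⁻¹ * (b⁻¹ * f h) := by rw [e, mul_assoc]
      _ = b⁻¹ := by rw [← (show Commute (f h) b from hfb h).inv_right.eq, inv_mul_cancel_left]
  have hxf : ∀ u, x * f u = f u * x := fun u => by
    have e : g * g * f u * (g * g)⁻¹ = f h * f u * (f h)⁻¹ := by
      rw [show g * g * f u * (g * g)⁻¹ = g * (g * f u * g⁻¹) * g⁻¹ by group, hφ, hφ, hh, map_mul, map_mul, map_inv]
    calc x * f u = (f h)⁻¹ * (g * g * f u * (g * g)⁻¹) * (g * g) := by rw [hx]; group
      _ = _ := by rw [e, hx]; group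
  have hxx : x * x = 1 := by
    obtain ⟨u, j, huj⟩ := hdec (x * x) (by
      refine mul_inv_eq_iff_eq_mul.1 ?_
      calc x * x * b * (x * x)⁻¹ = x * (x * b * x⁻¹) * x⁻¹ := by group
        _ = x * b⁻¹ * x⁻¹ := by rw [hxb]
        _ = (x * b * x⁻¹)⁻¹ := by group
        _ = b := by rw [hxb, inv_inv])
    have hu1 : u = 1 := by
      refine a6_center fun v => hfi ?_
      rw [map_mul, map_mul]
      have h1 : x * x * f v = f v * (x * x) := ((show Commute x (f v) from hxf v).mul_left (hxf v)).eq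
      rw [huj] at h1
      have h2 : b ^ j * f v = f v * b ^ j := ((show Commute (f v) b from hfb v).zpow_right j).eq.symm
      rw [mul_assoc, h2, ← mul_assoc, ← mul_assoc] at h1
      exact mul_right_cancel h1
    rw [hu1, map_one, one_mul] at huj
    have h1 : x * b ^ j * x⁻¹ = b ^ j := by rw [← huj]; group
    rw [← conj_zpow, hxb, inv_zpow] at h1
    rw [huj]
    exact zpow_eq_one_of_sq (by rw [hb]; decide) (by nth_rw 1 [← h1]; exact inv_mul_cancel _)
  have hx1 : x ≠ 1 := fun e => by
    rw [e, one_mul, inv_one, mul_one] at hxb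
    have : b ^ 2 = 1 := by rw [pow_two]; nth_rw 2 [hxb]; exact mul_inv_cancel b
    have := orderOf_dvd_of_pow_eq_one this
    rw [hb] at this
    norm_num at this
  have hxo : orderOf x = 2 := orderOf_eq_prime (by rw [pow_two, hxx]) hx1
  set u := f (ga * gb) with hu
  have hu5 : orderOf u = 5 := by rw [hu, orderOf_injective f hfi, orderOf_gab]
  have hind : u ∉ zpowers b := by
    rintro ⟨j, hj⟩
    exact gab_five.2 (hker _ j hj.symm)
  have hxt : IsConj x t := (F.classes x hxo).resolve_left fun hc => by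
    obtain ⟨k, -, hk⟩ := move (w := z) (b₀ := b) (p := 5) (by rw [F.card_cz]; norm_num) hbz hb hc
      (hxf (ga * gb)).symm hu5
    refine line_not_conj F hb hu5 (hfb _).symm hind hxb (hxf _) hxx k⁻¹ ?_
    rw [← zpowers_conj, ← hk, zpowers_conj, inv_inv, hu]
    congr 1; group
  obtain ⟨g0, hg0⟩ := isConj_iff.1 hxt
  refine ⟨(MulAut.conj g0).toMonoidHom.comp f, g0 * b * g0⁻¹,
    (MulAut.conj g0).injective.comp hfi, ?_, ?_, fun u => ?_, fun y hy hyb => ?_⟩
  · -- inside `C(E)`
    set f' := (MulAut.conj g0).toMonoidHom.comp f with hf'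
    have hft : ∀ u, f' u ∈ centralizer ({t} : Set G) := fun u => mem_centralizer_singleton_iff.2 (by
      rw [← hg0]
      show g0 * f u * g0⁻¹ * (g0 * x * g0⁻¹) = g0 * x * g0⁻¹ * (g0 * f u * g0⁻¹)
      calc g0 * f u * g0⁻¹ * (g0 * x * g0⁻¹) = g0 * (f u * x) * g0⁻¹ := by group
        _ = g0 * (x * f u) * g0⁻¹ := by rw [hxf u]
        _ = _ := by group)
    have hN : ((centralizer (E : Set G)).comap f').Normal := ⟨fun v hv u => by
      rw [mem_comap, map_mul, map_mul, map_inv]
      have hn := F.norm_E (hft u)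
      refine mem_centralizer_iff.2 fun e he => ?_
      have he' := (mem_normalizer_iff.1 (inv_mem hn) e).1 he
      rw [inv_inv] at he'
      have h1 := mem_centralizer_iff.1 (mem_comap.1 hv) _ he'
      calc e * (f' u * f' v * (f' u)⁻¹) = f' u * ((f' u)⁻¹ * e * f' u * f' v) * (f' u)⁻¹ := by group
        _ = f' u * (f' v * ((f' u)⁻¹ * e * f' u)) * (f' u)⁻¹ := by rw [h1]
        _ = _ := by group⟩
    have htop := (IsSimpleGroup.eq_bot_or_eq_top_of_normal _ hN).resolve_left fun e => gab_five.2 (by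
      refine mem_bot.1 (e ▸ mem_comap.2 (F.odd_cent _ (hft _) ?_))
      rw [orderOf_injective f' ((MulAut.conj g0).injective.comp hfi), orderOf_gab]; decide)
    exact fun u => mem_comap.1 (htop ▸ mem_top u)
  · rw [show g0 * b * g0⁻¹ = MulAut.conj g0 b from rfl, MulEquiv.orderOf_eq, hb]
  · show g0 * f u * g0⁻¹ * (g0 * b * g0⁻¹) = g0 * b * g0⁻¹ * (g0 * f u * g0⁻¹)
    calc g0 * f u * g0⁻¹ * (g0 * b * g0⁻¹) = g0 * (f u * b) * g0⁻¹ := by group
      _ = g0 * (b * f u) * g0⁻¹ := by rw [hfb u]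
      _ = _ := by group
  · refine (isConj_iff.2 ⟨g0⁻¹, rfl⟩ : IsConj y _).trans (hall (g0⁻¹ * y * g0⁻¹⁻¹) ?_ ?_)
    · rw [show g0⁻¹ * y * g0⁻¹⁻¹ = MulAut.conj g0⁻¹ y from rfl, MulEquiv.orderOf_eq, hy]
    · calc g0⁻¹ * y * g0⁻¹⁻¹ * b = g0⁻¹ * (y * (g0 * b * g0⁻¹)) * g0 := by group
        _ = g0⁻¹ * (g0 * b * g0⁻¹ * y) * g0 := by rw [hyb]
        _ = _ := by group

end Cfsg.Agent.SuzukiRecog
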